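import Cfsg.Agent.H78.PMin.Assembly
import Cfsg.Agent.H78.PMin.Block
import Cfsg.Agent.H78.PMin.Exact

/-!
Exact offenders of a `p`-minimal group lie in the product of its components.
-/

set_option autoImplicit false
set_option linter.unusedSectionVars false
set_option linter.style.haveILetI false

open Subgroup
open scoped commutatorElement
open H70 (cj)
open H78.PMin

namespace H80.LCSS

variable {G : Type*} [Group G] [Finite G] {p : ℕ}

/-- What is needed to know about one component. -/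
structure Local (p : ℕ) (V P T E : Subgroup G) : Prop where
  elem : Cfsg.IsElementaryAbelian p V
  tgroup : IsPGroup p T
  core : Cfsg.pCoreOf p P = ⊥
  faith : P ⊓ centralizer (V : Set G) = ⊥
  exact : ∀ B : Subgroup G, B ≤ P → Cfsg.IsElementaryAbelian p B →
    Nat.card B * Nat.card (fx V B) ≤ Nat.card V
  comp : Comp V P T E
  big : 4 * Nat.card (fx V E) ≤ Nat.card V
  loc : ∀ A : Subgroup G, A ≤ P → Cfsg.IsElementaryAbelian p A → (∀ a ∈ A, cj a E = E) →
    Nat.card A * Nat.card ↥(fx V A ⊔ fx V E) ≤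
        Nat.card ↥(A ⊓ centralizer (brk V E : Set G)) * Nat.card V ∧
      (Nat.card ↥(A ⊓ centralizer (brk V E : Set G)) * Nat.card V ≤
          Nat.card A * Nat.card ↥(fx V A ⊔ fx V E) →
        ∀ a ∈ A, ∃ e ∈ E, e⁻¹ * a ∈ centralizer (brk V E : Set G))

/-- The product of the components. -/
def comps (T E : Subgroup G) : Subgroup G := ⨆ t ∈ T, cj t E

/-- `F` is a component. -/
def Cs (T E F : Subgroup G) : Prop := ∃ t ∈ T, cj t E = F

namespace Local

variable [Fact p.Prime] {V P T E : Subgroup G} (l : Local p V P T E)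
include l

omit l in
theorem cs_le {F : Subgroup G} (hF : Cs T E F) : F ≤ comps T E := by
  obtain ⟨t, ht, rfl⟩ := hF
  exact le_iSup₂ (f := fun t (_ : t ∈ T) => cj t E) t ht

omit l in
theorem cs_self : Cs T E E := ⟨1, one_mem _, H70.cj_of_mem (one_mem E)⟩

theorem cs_le_P {F : Subgroup G} (hF : Cs T E F) : F ≤ P := by
  obtain ⟨t, ht, rfl⟩ := hF
  exact cj_le (l.comp.T_le ht) l.comp.le

theorem comps_le : comps T E ≤ P := iSup₂_le fun t ht => l.cs_le_P ⟨t, ht, rfl⟩

theorem conj_V {g v : G} (hg : g ∈ P) (hv : v ∈ V) : g * v * g⁻¹ ∈ V :=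
  H75.conj_mem_of_mem_normalizer (l.comp.norm hg) hv

theorem brk_le_V {D : Subgroup G} (hD : D ≤ P) : brk V D ≤ V :=
  brk_le fun _ hd v hv => mul_mem (l.conj_V (hD hd) hv) (inv_mem hv)

omit [Fact p.Prime] in
omit l in
theorem conj_fix {x y : G} (h : x * y = y * x) : x * y * x⁻¹ = y := by
  rw [h, mul_inv_cancel_right]

theorem comm_cs {F F' : Subgroup G} (hF : Cs T E F) (hF' : Cs T E F') (hne : F ≠ F') :
    ∀ x ∈ F, ∀ y ∈ F', x * y = y * x := by
  obtain ⟨a, ha, rfl⟩ := hF
  obtain ⟨b, hb, rfl⟩ := hF'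
  exact l.comp.comm' ha hb hne

theorem fix_cs {F F' : Subgroup G} (hF : Cs T E F) (hF' : Cs T E F') (hne : F ≠ F') :
    ∀ x ∈ F, ∀ u ∈ brk V F', x * u = u * x := by
  obtain ⟨a, ha, rfl⟩ := hF
  obtain ⟨b, hb, rfl⟩ := hF'
  exact l.comp.fix' ha hb hne

theorem brk_le_fx {F F' : Subgroup G} (hF : Cs T E F) (hF' : Cs T E F') (hne : F ≠ F') :
    brk V F' ≤ fx V F := fun u hu =>
  ⟨l.brk_le_V (l.cs_le_P hF') hu, mem_centralizer_iff.2 fun x hx => l.fix_cs hF hF' hne x hx u hu⟩

theorem split_cs {F : Subgroup G} (hF : Cs T E F) {v : G} (hv : v ∈ V) :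
    ∃ w ∈ brk V F, ∃ z ∈ fx V F, v = w * z := by
  obtain ⟨t, ht, rfl⟩ := hF
  exact l.comp.split' ht hv

theorem card_fx_cs {F : Subgroup G} (hF : Cs T E F) : Nat.card (fx V F) = Nat.card (fx V E) := by
  obtain ⟨t, ht, rfl⟩ := hF
  exact fx_card (l.comp.norm (l.comp.T_le ht)) E

theorem T_norm : T ≤ normalizer (comps T E : Set G) := by
  refine H75.le_normalizer_of_conj fun t ht a ha => ?_
  have h : comps T E ≤ (comps T E).comap (MulAut.conj t).toMonoidHom := by
    refine iSup₂_le fun s hs => ?_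
    intro x hx
    show t * x * t⁻¹ ∈ comps T E
    exact cs_le ⟨t * s, mul_mem ht hs, rfl⟩ (by
      rw [← H70.cj_cj, H70.mem_cj]; simpa [mul_assoc] using hx)
  exact h ha

theorem cs_fix {r : G} (hr : r ∈ comps T E) {F : Subgroup G} (hF : Cs T E F) : cj r F = F := by
  have h : comps T E ≤ normalizer (F : Set G) := iSup₂_le fun t ht => by
    by_cases hne : cj t E = F
    · rw [hne]; exact le_normalizer
    · exact le_trans (fun x hx => mem_centralizer_iff.2 fun y hy =>
        (l.comm_cs ⟨t, ht, rfl⟩ hF hne x hx y hy).symm) (centralizer_le_normalizer _)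
  exact mem_normalizer_iff_cj.1 (h hr)

theorem cs_conj {g : G} (hg : g ∈ P) {F : Subgroup G} (hF : Cs T E F) : Cs T E (cj g F) := by
  have hg' : g ∈ T ⊔ comps T E := by rwa [sup_comm, comps, l.comp.gen]
  obtain ⟨t, ht, r, hr, rfl⟩ := H10.exists_mul_of_mem_sup l.T_norm hg'
  rw [← H70.cj_cj, l.cs_fix hr hF]
  obtain ⟨s, hs, rfl⟩ := hF
  exact ⟨t * s, mul_mem ht hs, (H70.cj_cj t s E).symm⟩

theorem comps_norm : P ≤ normalizer (comps T E : Set G) := by
  refine H75.le_normalizer_of_conj fun g hg a ha => ?_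
  have h : comps T E ≤ (comps T E).comap (MulAut.conj g).toMonoidHom := by
    refine iSup₂_le fun s hs => ?_
    intro x hx
    show g * x * g⁻¹ ∈ comps T E
    exact cs_le (l.cs_conj hg ⟨s, hs, rfl⟩) (by rw [H70.mem_cj]; simpa [mul_assoc] using hx)
  exact h ha

/-- Fixed points of several components. -/
theorem card_fx_sup (s : Finset (Subgroup G)) (hs : ∀ F ∈ s, Cs T E F) :
    Nat.card (fx V (s.sup id)) * Nat.card V ^ s.card =
      Nat.card V * Nat.card (fx V E) ^ s.card := by
  classical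
  induction s using Finset.induction with
  | empty =>
    rw [Finset.card_empty, pow_zero, pow_zero, mul_one, mul_one, Finset.sup_empty]
    rw [show fx V (⊥ : Subgroup G) = V from inf_eq_left.2 fun v _ => mem_centralizer_iff.2
      fun b hb => by rw [SetLike.mem_coe, Subgroup.mem_bot] at hb; simp [hb]]
  | @insert F s hFs ih =>
    have hF := hs F (Finset.mem_insert_self _ _)
    have hs' : ∀ F' ∈ s, Cs T E F' := fun F' h => hs F' (Finset.mem_insert_of_mem h)
    rw [Finset.card_insert_of_notMem hFs, Finset.sup_insert, id]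
    have h1 : fx V (F ⊔ s.sup id) = fx V F ⊓ fx V (s.sup id) :=
      le_antisymm (le_inf (fx_anti le_sup_left) (fx_anti le_sup_right))
        fun v hv => fx_mem_sup hv.1 hv.2
    have h2 : fx V F ⊔ fx V (s.sup id) = V := by
      refine le_antisymm (sup_le inf_le_left inf_le_left) fun v hv => ?_
      obtain ⟨w, hw, z, hz, rfl⟩ := l.split_cs hF hv
      refine mul_mem (mem_sup_right ⟨l.brk_le_V (l.cs_le_P hF) hw, ?_⟩) (mem_sup_left hz)
      have h3 : s.sup id ≤ centralizer ({w} : Set G) := Finset.sup_le fun F' hF' x hx =>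
        mem_centralizer_singleton_iff.2 (l.fix_cs (hs' F' hF') hF
          (fun h => hFs (h ▸ hF')) x hx w hw)
      exact mem_centralizer_iff.2 fun x hx => mem_centralizer_singleton_iff.1 (h3 hx)
    have h4 := H10.card_mul_card_inf (le_normalizer_of_le_elem l.elem
      (inf_le_left : fx V F ≤ V) (inf_le_left : fx V (s.sup id) ≤ V))
    rw [h2, ← h1, l.card_fx_cs hF] at h4
    have h5 := ih hs'
    calc Nat.card (fx V (F ⊔ s.sup id)) * Nat.card V ^ (s.card + 1)
        = Nat.card V * Nat.card (fx V (F ⊔ s.sup id)) * Nat.card V ^ s.card := by ring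
      _ = Nat.card (fx V E) * (Nat.card (fx V (s.sup id)) * Nat.card V ^ s.card) := by rw [h4]; ring
      _ = _ := by rw [h5]; ring

/-- `V` is covered by the commutator groups of several components and their common fixed points. -/
theorem cover_sup {X : Subgroup G} (s : Finset (Subgroup G)) (hs : ∀ F ∈ s, Cs T E F)
    (hX : ∀ F ∈ s, brk V F ≤ X) : V ≤ X ⊔ fx V (s.sup id) := by
  classical
  induction s using Finset.induction with
  | empty =>
    refine le_trans ?_ le_sup_right
    exact le_inf le_rfl fun v _ => mem_centralizer_iff.2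
      fun b hb => by rw [Finset.sup_empty, SetLike.mem_coe, Subgroup.mem_bot] at hb; simp [hb]
  | @insert F s hFs ih =>
    have hF := hs F (Finset.mem_insert_self _ _)
    have hs' : ∀ F' ∈ s, Cs T E F' := fun F' h => hs F' (Finset.mem_insert_of_mem h)
    refine (ih hs' fun F' h => hX F' (Finset.mem_insert_of_mem h)).trans
      (sup_le le_sup_left fun z hz => ?_)
    obtain ⟨w, hw, y, hy, rfl⟩ := l.split_cs hF hz.1
    refine mul_mem (mem_sup_left (hX F (Finset.mem_insert_self _ _) hw)) (mem_sup_right ?_)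
    have hws : w ∈ fx V (s.sup id) := by
      refine ⟨l.brk_le_V (l.cs_le_P hF) hw, ?_⟩
      have h3 : s.sup id ≤ centralizer ({w} : Set G) := Finset.sup_le fun F' hF' x hx =>
        mem_centralizer_singleton_iff.2 (l.fix_cs (hs' F' hF') hF
          (fun h => hFs (h ▸ hF')) x hx w hw)
      exact mem_centralizer_iff.2 fun x hx => mem_centralizer_singleton_iff.1 (h3 hx)
    have := mul_mem (inv_mem hws) hz
    rw [inv_mul_cancel_left] at this
    rw [Finset.sup_insert, id]
    exact fx_mem_sup hy this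

/-- The main count. -/
theorem key {A : Subgroup G} (hAP : A ≤ P) (hA : Cfsg.IsElementaryAbelian p A)
    (hex : Nat.card V ≤ Nat.card A * Nat.card (fx V A)) :
    (∀ a ∈ A, cj a E = E) ∧ (∀ a ∈ A, ∃ e ∈ E, e⁻¹ * a ∈ centralizer (brk V E : Set G)) ∧
      Nat.card V ≤ Nat.card ↥(A ⊓ centralizer (brk V E : Set G)) *
        Nat.card (fx V (A ⊓ centralizer (brk V E : Set G))) ∧
      (A ⊓ centralizer (brk V E : Set G) = ⊥ → fx V E ≤ fx V A) := by
  classical
  have hexact := le_antisymm (l.exact A hAP hA) hex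
  set A₁ := A ⊓ normalizer (E : Set G) with hA₁
  set K := A ⊓ centralizer (brk V E : Set G) with hK
  have hA₁n : ∀ a ∈ A₁, cj a E = E := fun a ha => mem_normalizer_iff_cj.1 ha.2
  have hK1 : K ≤ A₁ := by
    intro k hk
    refine ⟨hk.1, mem_normalizer_iff_cj.2 ?_⟩
    by_contra hne
    have hkP := hAP hk.1
    have hF : Cs T E (cj k E) := l.cs_conj hkP cs_self
    have hU : brk V (cj k E) = brk V E := by
      rw [← cj_brk (l.comp.norm hkP)]
      ext u
      rw [H70.mem_cj]
      constructor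
      · intro hu
        have h1 := conj_fix (mem_centralizer_iff.1 hk.2 _ hu).symm
        rw [show k * (k⁻¹ * u * k) * k⁻¹ = u by group] at h1
        rwa [h1]
      · intro hu
        have h1 : k⁻¹ * u * k = u := by
          rw [mul_assoc, mem_centralizer_iff.1 hk.2 u hu, inv_mul_cancel_left]
        rwa [h1]
    have hUZ : brk V E ≤ fx V E := fun u hu => l.brk_le_fx cs_self hF (Ne.symm hne) (hU.ge hu)
    have hVZ : V ≤ fx V E := fun v hv => by
      obtain ⟨w, hw, z, hz, rfl⟩ := l.comp.split v hv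
      exact mul_mem (hUZ hw) hz
    have := Subgroup.card_le_of_le hVZ
    have h0 : 0 < Nat.card (fx V E) := Nat.card_pos
    have := l.big
    omega
  obtain ⟨h5, h6⟩ := l.loc A₁ (inf_le_left.trans hAP) (H10.elementaryAbelian_of_le hA inf_le_left)
    hA₁n
  have hK' : A₁ ⊓ centralizer (brk V E : Set G) = K :=
    le_antisymm (inf_le_inf_right _ inf_le_left) (le_inf hK1 inf_le_right)
  rw [hK'] at h5 h6
  -- the orbit
  let f : ↥A ⧸ A₁.subgroupOf A → Subgroup G := fun q =>
    Quotient.liftOn' q (fun a => cj (a : G) E) fun a b hab => by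
      have h1 := (QuotientGroup.leftRel_apply.1 hab)
      rw [mem_subgroupOf] at h1
      push_cast at h1
      show cj (a : G) E = cj (b : G) E
      conv_lhs => rw [← hA₁n _ h1, H70.cj_cj, mul_inv_cancel_left]
  have hfinj : Function.Injective f := by
    intro q q'
    induction q using Quotient.inductionOn'
    induction q' using Quotient.inductionOn'
    rename_i a b
    intro h
    refine QuotientGroup.eq.2 ?_
    rw [mem_subgroupOf]
    refine Subgroup.mem_inf.2 ⟨mul_mem (inv_mem a.2) b.2, mem_normalizer_iff_cj.2 ?_⟩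
    have h' : cj (a : G) E = cj (b : G) E := h
    show cj ((a : G)⁻¹ * b) E = E
    rw [← H70.cj_cj, ← h', cj_cancel']
  haveI : Fintype (↥A ⧸ A₁.subgroupOf A) := Fintype.ofFinite _
  set O : Finset (Subgroup G) := Finset.univ.image f with hO
  have hmemO : ∀ {F}, F ∈ O → ∃ a ∈ A, cj a E = F := by
    intro F hF
    obtain ⟨q, -, rfl⟩ := Finset.mem_image.1 hF
    induction q using Quotient.inductionOn'
    rename_i a
    exact ⟨a, a.2, rfl⟩
  have hOcs : ∀ F ∈ O, Cs T E F := fun F hF => by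
    obtain ⟨a, ha, rfl⟩ := hmemO hF
    exact l.cs_conj (hAP ha) cs_self
  have h4 : O.card * Nat.card A₁ = Nat.card A := by
    rw [hO, Finset.card_image_of_injective _ hfinj, Finset.card_univ, ← Nat.card_eq_fintype_card,
      Subgroup.card_eq_card_quotient_mul_card_subgroup (A₁.subgroupOf A)]
    congr 1
    exact (Nat.card_congr (subgroupOfEquivOfLe inf_le_left).toEquiv).symm
  have ho : 1 ≤ O.card := Finset.card_pos.2 ⟨f (QuotientGroup.mk 1),
    Finset.mem_image.2 ⟨_, Finset.mem_univ _, rfl⟩⟩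
  set H := fx V K with hH
  set Z := fx V E with hZ
  have hHU : ∀ F ∈ O, brk V F ≤ H := by
    intro F hF
    obtain ⟨a, ha, rfl⟩ := hmemO hF
    refine le_inf (l.brk_le_V (l.cs_le_P (l.cs_conj (hAP ha) cs_self))) fun u hu => ?_
    refine mem_centralizer_iff.2 fun k hk => ?_
    rw [← cj_brk (l.comp.norm (hAP ha)), H70.mem_cj] at hu
    have h1 : k * (a⁻¹ * u * a) = a⁻¹ * u * a * k := (mem_centralizer_iff.1 hk.2 _ hu).symm
    have h2 : k * a = a * k := H10.comm_of_elem hA hk.1 ha
    have h3 : k * a⁻¹ = a⁻¹ * k := (Commute.inv_right h2)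
    calc k * u = k * a * (a⁻¹ * u * a) * a⁻¹ := by group
      _ = a * (k * (a⁻¹ * u * a)) * a⁻¹ := by rw [h2]; group
      _ = a * (a⁻¹ * u * a * k) * a⁻¹ := by rw [h1]
      _ = u * a * (k * a⁻¹) := by group
      _ = u * k := by rw [h3]; group
  have hI : fx V A ⊓ Z ≤ H ⊓ fx V (O.sup id) := by
    refine fun z hz => ⟨fx_anti inf_le_left hz.1, hz.1.1, ?_⟩
    have h3 : O.sup id ≤ centralizer ({z} : Set G) := Finset.sup_le fun F hF x hx => by
      obtain ⟨a, ha, rfl⟩ := hmemO hF
      refine mem_centralizer_singleton_iff.2 ?_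
      have h1 := fx_comm hz.2 (H70.mem_cj.1 hx)
      have h2 := fx_comm hz.1 ha
      have h2' : a⁻¹ * z = z * a⁻¹ := Commute.inv_left h2
      calc x * z = a * (a⁻¹ * x * a) * (a⁻¹ * z) := by group
        _ = a * (a⁻¹ * x * a) * z * a⁻¹ := by rw [h2']; group
        _ = a * (a⁻¹ * x * a * z) * a⁻¹ := by group
        _ = a * (z * (a⁻¹ * x * a)) * a⁻¹ := by rw [h1]
        _ = a * z * a⁻¹ * x := by group
        _ = z * x := by rw [h2]; group
    exact mem_centralizer_iff.2 fun x hx => mem_centralizer_singleton_iff.1 (h3 hx)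
  have h1 : Nat.card ↥(fx V A ⊓ Z) * Nat.card V ^ O.card ≤
      Nat.card H * Nat.card Z ^ O.card := by
    have hsup : H ⊔ fx V (O.sup id) = V :=
      le_antisymm (sup_le inf_le_left inf_le_left) (l.cover_sup O hOcs hHU)
    have hc := H10.card_mul_card_inf (le_normalizer_of_le_elem l.elem
      (inf_le_left : H ≤ V) (inf_le_left : fx V (O.sup id) ≤ V))
    rw [hsup] at hc
    refine Nat.le_of_mul_le_mul_left ?_ (Nat.card_pos : 0 < Nat.card V)
    calc Nat.card V * (Nat.card ↥(fx V A ⊓ Z) * Nat.card V ^ O.card)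
        ≤ Nat.card V * (Nat.card ↥(H ⊓ fx V (O.sup id)) * Nat.card V ^ O.card) :=
          Nat.mul_le_mul_left _ (Nat.mul_le_mul_right _ (Subgroup.card_le_of_le hI))
      _ = Nat.card H * (Nat.card (fx V (O.sup id)) * Nat.card V ^ O.card) := by
          rw [← mul_assoc, hc, mul_assoc]
      _ = Nat.card V * (Nat.card H * Nat.card Z ^ O.card) := by rw [l.card_fx_sup O hOcs]; ring
  have h2 := l.exact K (inf_le_left.trans hAP) (H10.elementaryAbelian_of_le hA inf_le_left)
  have h3 := H10.card_mul_card_inf (le_normalizer_of_le_elem l.elem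
    (inf_le_left : fx V A ≤ V) (inf_le_left : Z ≤ V))
  have hS1 : fx V A ⊔ Z ≤ fx V A₁ ⊔ Z := sup_le_sup_right (fx_anti inf_le_left) _
  have h5' : Nat.card A₁ * Nat.card ↥(fx V A ⊔ Z) ≤ Nat.card K * Nat.card V :=
    le_trans (Nat.mul_le_mul_left _ (Subgroup.card_le_of_le hS1)) h5
  rw [← hH] at h2
  have pK : 0 < Nat.card K := Nat.card_pos
  have pI : 0 < Nat.card ↥(fx V A ⊓ Z) := Nat.card_pos
  have pZ : 0 < Nat.card Z := Nat.card_pos
  have hbig : 4 * Nat.card Z ≤ Nat.card V := l.big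
  obtain ⟨hO1, hkv, hvk⟩ : O.card = 1 ∧
      Nat.card K * Nat.card V ≤ Nat.card A₁ * Nat.card ↥(fx V A ⊔ Z) ∧
      Nat.card V ≤ Nat.card K * Nat.card H := by
    generalize Nat.card A = a, Nat.card A₁ = a₁, Nat.card (fx V A) = x, Nat.card K = k,
      Nat.card H = h, Nat.card Z = z, Nat.card V = v, Nat.card ↥(fx V A ⊓ Z) = i,
      Nat.card ↥(fx V A ⊔ Z) = s, O.card = o at *
    obtain ⟨m, rfl⟩ : ∃ m, o = m + 1 := ⟨o - 1, by omega⟩
    have chain : k * i * v ^ (m + 1) * z ≤ (m + 1) * (k * v) * i * z ^ (m + 1) := by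
      calc k * i * v ^ (m + 1) * z = k * (i * v ^ (m + 1)) * z := by ring
        _ ≤ k * (h * z ^ (m + 1)) * z := Nat.mul_le_mul_right _ (Nat.mul_le_mul_left _ h1)
        _ = (k * h) * z ^ (m + 1) * z := by ring
        _ ≤ v * z ^ (m + 1) * z := Nat.mul_le_mul_right _ (Nat.mul_le_mul_right _ h2)
        _ = (m + 1) * a₁ * (x * z) * z ^ (m + 1) := by rw [← hexact, ← h4]; ring
        _ = (m + 1) * (a₁ * s) * i * z ^ (m + 1) := by rw [← h3]; ring
        _ ≤ _ := Nat.mul_le_mul_right _ (Nat.mul_le_mul_right _ (Nat.mul_le_mul_left _ h5'))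
    have hm : m = 0 := by
      by_contra hm
      have e1 : v ^ m * (k * i * v * z) ≤ (m + 1) * z ^ m * (k * i * v * z) := by
        calc v ^ m * (k * i * v * z) = k * i * v ^ (m + 1) * z := by ring
          _ ≤ _ := chain
          _ = _ := by ring
      have hv : 0 < v := by omega
      have e2 := Nat.le_of_mul_le_mul_right e1 (Nat.mul_pos (Nat.mul_pos (Nat.mul_pos pK pI) hv) pZ)
      have e3 : 4 ^ m * z ^ m ≤ (m + 1) * z ^ m :=
        le_trans (by rw [← mul_pow]; exact Nat.pow_le_pow_left hbig m) e2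
      have e4 := Nat.le_of_mul_le_mul_right e3 (pow_pos pZ m)
      have e5 : m < 2 ^ m := Nat.lt_two_pow_self
      have e6 : 2 ^ m * 2 ^ m = 4 ^ m := by rw [← mul_pow]; norm_num
      have e7 : 2 ^ 1 ≤ 2 ^ m := Nat.pow_le_pow_right (by norm_num) (by omega)
      nlinarith
    subst hm
    refine ⟨rfl, Nat.le_of_mul_le_mul_right (c := z * i) ?_ (Nat.mul_pos pZ pI),
      Nat.le_of_mul_le_mul_right (c := z * i) ?_ (Nat.mul_pos pZ pI)⟩
    · calc k * v * (z * i) = k * (i * v ^ (0 + 1)) * z := by ring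
        _ ≤ k * (h * z ^ (0 + 1)) * z := Nat.mul_le_mul_right _ (Nat.mul_le_mul_left _ h1)
        _ = (k * h) * z ^ (0 + 1) * z := by ring
        _ ≤ v * z ^ (0 + 1) * z := Nat.mul_le_mul_right _ (Nat.mul_le_mul_right _ h2)
        _ = (0 + 1) * a₁ * (x * z) * z ^ (0 + 1) * 1 := by rw [← hexact, ← h4]; ring
        _ = a₁ * s * i * z := by rw [← h3]; ring
        _ = a₁ * s * (z * i) := by ring
    · calc v * (z * i) = (0 + 1) * a₁ * (x * z) * i := by rw [← hexact, ← h4]; ring
        _ = a₁ * s * i * i := by rw [← h3]; ring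
        _ ≤ k * v * i * i := Nat.mul_le_mul_right _ (Nat.mul_le_mul_right _ h5')
        _ = k * (i * v ^ (0 + 1)) * i := by ring
        _ ≤ k * (h * z ^ (0 + 1)) * i := Nat.mul_le_mul_right _ (Nat.mul_le_mul_left _ h1)
        _ = _ := by ring
  have hA1A : A₁ = A := by
    refine Subgroup.eq_of_le_of_card_ge inf_le_left ?_
    rw [← h4, hO1, one_mul]
  rw [hA1A] at h5 h6 hkv hA₁n
  refine ⟨hA₁n, h6 hkv, hvk, fun hbot => ?_⟩
  rw [hbot, Subgroup.card_bot, one_mul, ← hexact] at h5
  have h7 := Nat.le_of_mul_le_mul_left h5 Nat.card_pos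
  exact le_sup_right.trans (Subgroup.eq_of_le_of_card_ge le_sup_left h7).ge

/-- The count at every component. -/
theorem key_cs {A : Subgroup G} (hAP : A ≤ P) (hA : Cfsg.IsElementaryAbelian p A)
    (hex : Nat.card V ≤ Nat.card A * Nat.card (fx V A)) {F : Subgroup G} (hF : Cs T E F) :
    ∀ a ∈ A, cj a F = F ∧ ∃ e ∈ F, e⁻¹ * a ∈ centralizer (brk V F : Set G) := by
  obtain ⟨t, ht, rfl⟩ := hF
  have htP := l.comp.T_le ht
  have hA' : Cfsg.IsElementaryAbelian p (cj t⁻¹ A) := by
    refine ⟨⟨⟨fun a c => Subtype.ext ?_⟩⟩, fun a ha => ?_⟩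
    · have h1 := H10.comm_of_elem hA (H70.mem_cj.1 a.2) (H70.mem_cj.1 c.2)
      rw [inv_inv] at h1
      show (a : G) * c = c * a
      calc (a : G) * c = t⁻¹ * ((t * a * t⁻¹) * (t * c * t⁻¹)) * t := by group
        _ = t⁻¹ * ((t * c * t⁻¹) * (t * a * t⁻¹)) * t := by rw [h1]
        _ = _ := by group
    · have h1 := hA.2 _ (H70.mem_cj.1 ha)
      rwa [inv_inv, conj_pow, conj_eq_one_iff] at h1
  have hex' : Nat.card V ≤ Nat.card (cj t⁻¹ A) * Nat.card (fx V (cj t⁻¹ A)) := by
    rw [H70.card_cj, fx_card (l.comp.norm (inv_mem htP))]; exact hex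
  obtain ⟨k1, k2, -, -⟩ := l.key (cj_le (inv_mem htP) hAP) hA' hex'
  intro a ha
  have ha' : t⁻¹ * a * t ∈ cj t⁻¹ A := H70.mem_cj.2 (by simpa [mul_assoc] using ha)
  refine ⟨?_, ?_⟩
  · rw [H70.cj_cj, show a * t = t * (t⁻¹ * a * t) by group, ← H70.cj_cj, k1 _ ha']
  · obtain ⟨e, he, hc⟩ := k2 _ ha'
    refine ⟨t * e * t⁻¹, H70.mem_cj.2 (by simpa [mul_assoc] using he), ?_⟩
    rw [← cj_brk (l.comp.norm htP), ← cj_centralizer, H70.mem_cj]
    rwa [show t⁻¹ * ((t * e * t⁻¹)⁻¹ * a) * t = e⁻¹ * (t⁻¹ * a * t) by group]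

/-- The components as a finite set. -/
noncomputable def csSet (_l : Local p V P T E) : Finset (Subgroup G) :=
  (Set.toFinite {F | Cs T E F}).toFinset

theorem mem_csSet {F : Subgroup G} : F ∈ l.csSet ↔ Cs T E F := Set.Finite.mem_toFinset _

theorem sup_csSet : l.csSet.sup id = comps T E :=
  le_antisymm (Finset.sup_le fun _ hF => cs_le (l.mem_csSet.1 hF))
    (iSup₂_le fun t ht => Finset.le_sup (f := id) (l.mem_csSet.2 ⟨t, ht, rfl⟩))

/-- Only the identity fixes all commutator groups. -/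
theorem eq_one {g : G} (hg : g ∈ P) (h : ∀ F, Cs T E F → g ∈ centralizer (brk V F : Set G)) :
    g = 1 := by
  set W := ⨆ F ∈ l.csSet, brk V F with hW
  set N := P ⊓ centralizer (W : Set G) with hN
  have hgN : g ∈ N := by
    refine Subgroup.mem_inf.2 ⟨hg, mem_centralizer_iff.2 fun u hu => ?_⟩
    have h1 : W ≤ centralizer ({g} : Set G) := iSup₂_le fun F hF x hx =>
      mem_centralizer_singleton_iff.2 (mem_centralizer_iff.1 (h F (l.mem_csSet.1 hF)) x hx)
    exact mem_centralizer_singleton_iff.1 (h1 hu)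
  have hWn : P ≤ normalizer (W : Set G) := by
    refine H75.le_normalizer_of_conj fun k hk u hu => ?_
    have h1 : W ≤ W.comap (MulAut.conj k).toMonoidHom := iSup₂_le fun F hF x hx => by
      show k * x * k⁻¹ ∈ W
      have hF' := l.mem_csSet.2 (l.cs_conj hk (l.mem_csSet.1 hF))
      refine le_iSup₂ (f := fun F (_ : F ∈ l.csSet) => brk V F) (cj k F) hF' ?_
      rw [← cj_brk (l.comp.norm hk), H70.mem_cj]
      simpa [mul_assoc] using hx
    exact h1 hu
  have hNn : P ≤ normalizer (N : Set G) :=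
    (le_inf le_normalizer (hWn.trans (H75.normalizer_le_normalizer_centralizer W))).trans
      (H75.normalizer_inf_le_normalizer_inf _ _)
  have hNR : N ⊓ comps T E = ⊥ := by
    rw [eq_bot_iff, ← l.faith]
    rintro x ⟨⟨hxP, hxW⟩, hxR⟩
    refine Subgroup.mem_inf.2 ⟨hxP, mem_centralizer_iff.2 fun v hv => ?_⟩
    have h1 : W ⊔ fx V (l.csSet.sup id) ≤ centralizer ({x} : Set G) := by
      refine sup_le (fun u hu => mem_centralizer_singleton_iff.2
        (mem_centralizer_iff.1 hxW u hu)) fun z hz => mem_centralizer_singleton_iff.2 ?_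
      rw [l.sup_csSet] at hz
      exact (fx_comm hz hxR).symm
    exact mem_centralizer_singleton_iff.1 (h1 (l.cover_sup _ (fun F => l.mem_csSet.1)
      (fun F hF => le_iSup₂ (f := fun F (_ : F ∈ l.csSet) => brk V F) F hF) hv))
  have hNp : IsPGroup p N := by
    have h1 := H10.card_mul_card_inf ((inf_le_left : N ≤ P).trans l.comps_norm)
    rw [hNR, Subgroup.card_bot, mul_one] at h1
    have h2 := H10.card_mul_card_inf l.T_norm
    have hP : T ⊔ comps T E = P := by rw [sup_comm, comps]; exact l.comp.gen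
    rw [hP] at h2
    have h3 : Nat.card ↥(N ⊔ comps T E) ∣ Nat.card P :=
      Subgroup.card_dvd_of_le (sup_le inf_le_left l.comps_le)
    rw [h1] at h3
    have h4 : Nat.card N ∣ Nat.card T := by
      refine Nat.dvd_of_mul_dvd_mul_right (Nat.card_pos : 0 < Nat.card (comps T E)) ?_
      exact h3.trans ⟨_, h2.symm⟩
    obtain ⟨k, hk⟩ := IsPGroup.iff_card.1 l.tgroup
    obtain ⟨j, -, hj⟩ := (Nat.dvd_prime_pow Fact.out).1 (hk ▸ h4)
    exact IsPGroup.of_card hj
  have := H75.le_pCoreOf inf_le_left hNn hNp hgN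
  rwa [l.core, Subgroup.mem_bot] at this

/-- An exact offender lies in the product of the components. -/
theorem le_comps {A : Subgroup G} (hAP : A ≤ P) (hA : Cfsg.IsElementaryAbelian p A)
    (hex : Nat.card V ≤ Nat.card A * Nat.card (fx V A)) : A ≤ comps T E := by
  classical
  intro a ha
  have hs : ∀ s : Finset (Subgroup G), (∀ F ∈ s, Cs T E F) → ∃ r ∈ s.sup id,
      ∀ F ∈ s, r⁻¹ * a ∈ centralizer (brk V F : Set G) := by
    intro s hs
    induction s using Finset.induction with
    | empty => exact ⟨1, one_mem _, fun F hF => absurd hF (Finset.notMem_empty F)⟩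
    | @insert F s hFs ih =>
      have hF := hs F (Finset.mem_insert_self _ _)
      have hs' : ∀ F' ∈ s, Cs T E F' := fun F' h => hs F' (Finset.mem_insert_of_mem h)
      obtain ⟨r, hr, hrs⟩ := ih hs'
      obtain ⟨hnorm, e, he, hec⟩ := l.key_cs hAP hA hex hF a ha
      have hrF : r ∈ centralizer (brk V F : Set G) := by
        have h1 : s.sup id ≤ centralizer (brk V F : Set G) := Finset.sup_le fun F' hF' x hx =>
          mem_centralizer_iff.2 fun u hu => (l.fix_cs (hs' F' hF') hF
            (fun h => hFs (h ▸ hF')) x hx u hu).symm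
        exact h1 hr
      have hre : Commute r e := by
        have h1 : s.sup id ≤ centralizer ({e} : Set G) := Finset.sup_le fun F' hF' x hx =>
          mem_centralizer_singleton_iff.2
            (l.comm_cs (hs' F' hF') hF (fun h => hFs (h ▸ hF')) x hx e he)
        exact (mem_centralizer_singleton_iff.1 (h1 hr))
      refine ⟨r * e, ?_, fun F' hF' => ?_⟩
      · rw [Finset.sup_insert, id]
        exact mul_mem (mem_sup_right hr) (mem_sup_left he)
      rcases Finset.mem_insert.1 hF' with rfl | hF'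
      · rw [show (r * e)⁻¹ * a = r⁻¹ * (e⁻¹ * a) by
          rw [hre.eq, mul_inv_rev]; group]
        exact mul_mem (inv_mem hrF) hec
      · rw [show (r * e)⁻¹ * a = e⁻¹ * (r⁻¹ * a) by group]
        exact mul_mem (inv_mem (mem_centralizer_iff.2 fun u hu =>
          (l.fix_cs hF (hs' F' hF') (fun h => hFs (h ▸ hF')) e he u hu).symm)) (hrs F' hF')
  obtain ⟨r, hr, hrs⟩ := hs l.csSet fun F => l.mem_csSet.1
  rw [l.sup_csSet] at hr
  have h1 : r⁻¹ * a = 1 := l.eq_one (mul_mem (inv_mem (l.comps_le hr)) (hAP ha))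
    fun F hF => hrs F (l.mem_csSet.2 hF)
  rw [inv_mul_eq_one] at h1
  exact h1 ▸ hr

/-- A minimal exact offender lies in one component. -/
theorem exists_cs_ge {A : Subgroup G} (hAP : A ≤ P) (hA : Cfsg.IsElementaryAbelian p A)
    (hne : A ≠ ⊥) (hex : Nat.card V ≤ Nat.card A * Nat.card (fx V A))
    (hmin : ∀ B : Subgroup G, B ≤ A → B ≠ ⊥ → B ≠ A →
      Nat.card B * Nat.card (fx V B) < Nat.card V) :
    ∃ t ∈ T, cj t⁻¹ A ≤ E := by
  obtain ⟨F, hF, hKF⟩ : ∃ F, Cs T E F ∧ ¬ A ≤ centralizer (brk V F : Set G) := by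
    by_contra hno
    push Not at hno
    exact hne ((Subgroup.eq_bot_iff_forall _).2 fun a ha =>
      l.eq_one (hAP ha) fun F hF => hno F hF ha)
  obtain ⟨t, ht, rfl⟩ := hF
  refine ⟨t, ht, ?_⟩
  have htP := l.comp.T_le ht
  set B := cj t⁻¹ A with hB
  have hBP : B ≤ P := cj_le (inv_mem htP) hAP
  have hcard : ∀ C : Subgroup G, Nat.card C * Nat.card (fx V C) =
      Nat.card (cj t C) * Nat.card (fx V (cj t C)) := fun C => by
    rw [H70.card_cj, fx_card (l.comp.norm htP)]
  have hBex : Nat.card V ≤ Nat.card B * Nat.card (fx V B) := by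
    rwa [hcard, hB, cj_cancel]
  have hBel : Cfsg.IsElementaryAbelian p B := cj_elem hA t⁻¹
  obtain ⟨k1, k2, k3, k4⟩ := l.key hBP hBel hBex
  set K := B ⊓ centralizer (brk V E : Set G) with hK
  have hKbot : K = ⊥ := by
    by_contra h0
    have hKA : cj t K ≤ A := (H70.cj_mono t inf_le_left).trans (cj_cancel t A).le
    have hKne : cj t K ≠ A := by
      intro h
      refine hKF ?_
      rw [← h, ← cj_brk (l.comp.norm htP), ← cj_centralizer]
      exact H70.cj_mono t inf_le_right
    have h1 := hmin (cj t K) hKA (fun h => h0 (by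
      rw [← cj_cancel' t K, h, H70.cj, Subgroup.map_bot])) hKne
    rw [← hcard] at h1
    exact h1.not_ge k3
  have hfix := k4 hKbot
  intro b hb
  obtain ⟨e, he, hec⟩ := k2 b hb
  have h1 : e⁻¹ * b = 1 := l.eq_one (mul_mem (inv_mem (l.comp.le he)) (hBP hb)) fun F hF => by
    by_cases hFE : F = E
    · rwa [hFE]
    · refine mul_mem (inv_mem (mem_centralizer_iff.2 fun u hu =>
        (l.fix_cs cs_self hF (Ne.symm hFE) e he u hu).symm)) (mem_centralizer_iff.2 fun u hu => ?_)
      exact (fx_comm (hfix (l.brk_le_fx cs_self hF (Ne.symm hFE) hu)) hb).symm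
  rw [inv_mul_eq_one] at h1
  exact h1 ▸ he

end Local

end H80.LCSS
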