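import Mathlib.FieldTheory.Fixed
import Mathlib.GroupTheory.PGroup
import Mathlib.Algebra.CharP.Lemmas
import Mathlib.Algebra.Ring.Aut
import Mathlib.Algebra.Ring.Action.Basic
import Mathlib.FieldTheory.Finiteness
import Mathlib.LinearAlgebra.Matrix.SpecialLinearGroup

/-!
An abelian `p`-group of semilinear maps of a plane normalising `SL₂` fixes few points.
-/

set_option autoImplicit false
set_option linter.unusedSectionVars false

namespace H80.LCSS

variable {F : Type} [Field F]

/-- The determinant of two vectors. -/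
def dt (x y : (Fin 2 → F)) : F := x 0 * y 1 - x 1 * y 0

theorem dt_smul {x y : (Fin 2 → F)} (c : F) : dt x (c • y) = c * dt x y := by
  simp [dt]; ring

theorem exists_smul_of_dt {x y : (Fin 2 → F)} (hx : x ≠ 0) (h : dt x y = 0) : ∃ c : F, y = c • x := by
  unfold dt at h
  by_cases h0 : x 0 = 0
  · have h1 : x 1 ≠ 0 := fun h1 => hx (funext fun i => by fin_cases i <;> simp [h0, h1])
    refine ⟨y 1 / x 1, funext fun i => ?_⟩
    rw [h0, zero_mul, zero_sub, neg_eq_zero, mul_eq_zero, or_iff_right h1] at h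
    fin_cases i <;> simp [h0, h, h1]
  · refine ⟨y 0 / x 0, funext fun i => ?_⟩
    fin_cases i <;> simp [h0]
    field_simp
    linear_combination h

theorem exists_coord {x y : (Fin 2 → F)} (h : dt x y ≠ 0) (z : (Fin 2 → F)) : ∃ a c : F, z = a • x + c • y := by
  refine ⟨dt z y / dt x y, dt x z / dt x y, funext fun i => ?_⟩
  simp only [dt] at h ⊢
  fin_cases i <;> simp <;>
    rw [div_mul_eq_mul_div, div_mul_eq_mul_div, ← add_div, eq_div_iff h] <;> ring

theorem exists_dt_ne {x : (Fin 2 → F)} (hx : x ≠ 0) : ∃ y : (Fin 2 → F), dt x y ≠ 0 := by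
  by_contra hno
  push Not at hno
  refine hx (funext fun i => ?_)
  fin_cases i
  · simpa [dt] using hno ![0, 1]
  · simpa [dt] using hno ![1, 0]

variable {A : Type*} [Group A] (g : A → (Fin 2 → F) → (Fin 2 → F)) (σ : A → F → F)

/-- Fixed vectors with ratios in the fixed field. -/
theorem fixed_ratio (hsl : ∀ a c y, g a (c • y) = σ a c • g a y)
    {x : (Fin 2 → F)} (hx : x ≠ 0) (hgx : ∀ a, g a x = x) {c : F} (hc : ∀ a, g a (c • x) = c • x) :
    ∀ a, σ a c = c := fun a => by
  have h := hsl a c x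
  rw [hc, hgx] at h
  exact (smul_left_injective F hx h).symm

theorem main_bound [Finite F] [Finite A] {p : ℕ} [Fact p.Prime] (hA : IsPGroup p A)
    (hcomm : ∀ a b : A, a * b = b * a) (hchar : (p : F) = 0) (hexp : ∀ a : A, a ^ p = 1)
    (hg1 : ∀ y, g 1 y = y) (hgm : ∀ a b y, g (a * b) y = g a (g b y))
    (hadd : ∀ a y z, g a (y + z) = g a y + g a z)
    (hsl : ∀ a c y, g a (c • y) = σ a c • g a y) :
    Nat.card A * Nat.card {y : (Fin 2 → F) // ∀ a, g a y = y} ≤
        Nat.card {a : A // ∀ y, g a y = y} * (Nat.card F * Nat.card F) ∧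
      (Nat.card {a : A // ∀ y, g a y = y} * (Nat.card F * Nat.card F) ≤
          Nat.card A * Nat.card {y : (Fin 2 → F) // ∀ a, g a y = y} →
        ∀ a, ∃ M : Matrix.SpecialLinearGroup (Fin 2) F,
          ∀ y, g a y = (M : Matrix (Fin 2) (Fin 2) F).mulVec y) := by
  classical
  haveI : Fintype F := Fintype.ofFinite F
  haveI hC : CharP F p := (CharP.charP_iff_prime_eq_zero Fact.out).2 hchar
  let x₀ : (Fin 2 → F) := ![1, 0]
  have hx₀ : x₀ ≠ 0 := fun h => one_ne_zero (α := F) (congrFun h 0)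
  have hinj : ∀ a y z, g a y = g a z → y = z := fun a y z h => by
    have h1 := congrArg (g a⁻¹) h
    rwa [← hgm, ← hgm, inv_mul_cancel, hg1, hg1] at h1
  have hg0 : ∀ a, g a 0 = 0 := fun a => by
    have h := hadd a 0 0
    rw [add_zero] at h
    simpa using h
  have hne : ∀ a, g a x₀ ≠ 0 := fun a h => hx₀ (hinj a _ _ (h.trans (hg0 a).symm))
  have hσ1 : ∀ c, σ 1 c = c := fun c => by
    have h := hsl 1 c x₀
    rw [hg1, hg1] at h
    exact (smul_left_injective F hx₀ h).symm
  have hσm : ∀ a b c, σ (a * b) c = σ a (σ b c) := fun a b c => by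
    have h := hsl (a * b) c x₀
    rw [hgm, hsl, hsl, ← hgm] at h
    exact (smul_left_injective F (hne _) h).symm
  have hσadd : ∀ a c d, σ a (c + d) = σ a c + σ a d := fun a c d => by
    have h := hsl a (c + d) x₀
    rw [add_smul, hadd, hsl, hsl, ← add_smul] at h
    exact (smul_left_injective F (hne _) h).symm
  have hσmul : ∀ a c d, σ a (c * d) = σ a c * σ a d := fun a c d => by
    have h := hsl a (c * d) x₀
    rw [mul_smul, hsl, hsl, smul_smul] at h
    exact (smul_left_injective F (hne _) h).symm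
  have hσone : ∀ a, σ a 1 = 1 := fun a => by
    have h := hsl a 1 x₀
    rw [one_smul] at h
    exact smul_left_injective F (hne a) (h.symm.trans (one_smul F _).symm)
  let τ : A →* RingAut F := MonoidHom.mk' (fun a =>
    { toFun := σ a, invFun := σ a⁻¹,
      left_inv := fun c => by rw [← hσm, inv_mul_cancel, hσ1]
      right_inv := fun c => by rw [← hσm, mul_inv_cancel, hσ1]
      map_mul' := hσmul a, map_add' := hσadd a }) fun a b => RingEquiv.ext fun c => hσm a b c
  have hτ : ∀ a c, τ a c = σ a c := fun _ _ => rfl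
  set S := τ.range with hS
  set K₀ := FixedPoints.subfield S F with hK₀
  haveI : Finite S := Finite.of_surjective τ.rangeRestrict τ.rangeRestrict_surjective
  have hmem : ∀ c, (∀ a, σ a c = c) → c ∈ K₀ := by
    intro c hc
    rintro ⟨_, a, rfl⟩
    exact hc a
  -- a fixed vector
  obtain ⟨y₀, hy₀, hy0⟩ : ∃ y₀ : (Fin 2 → F), (∀ a, g a y₀ = y₀) ∧ y₀ ≠ 0 := by
    letI : MulAction A (Fin 2 → F) := { smul := g, one_smul := hg1, mul_smul := hgm }
    have hdvd : p ∣ Nat.card (Fin 2 → F) := by
      rw [Nat.card_fun, Nat.card_eq_fintype_card (α := Fin 2), Fintype.card_fin,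
        Nat.card_eq_fintype_card (α := F)]
      exact dvd_pow ((CharP.cast_eq_zero_iff F p _).1 (Nat.cast_card_eq_zero F)) two_ne_zero
    obtain ⟨y, hy, hne⟩ := hA.exists_fixed_point_of_prime_dvd_card_of_fixed_point (Fin 2 → F) hdvd
      (a := 0) (fun a => hg0 a)
    exact ⟨y, hy, Ne.symm hne⟩
  obtain ⟨y₁, hy₁⟩ := exists_dt_ne hy0
  -- the linear part
  have hlin : ∀ a ∈ τ.ker, ∀ (c : F) (y : Fin 2 → F), g a (c • y) = c • g a y := by
    intro a ha c y
    have h1 : τ a c = c := by rw [MonoidHom.mem_ker.1 ha]; rfl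
    rw [hsl, ← hτ, h1]
  let mat : A → Matrix (Fin 2) (Fin 2) F := fun a i j => g a (Pi.single j 1) i
  have hmat : ∀ a ∈ τ.ker, ∀ y, g a y = (mat a).mulVec y := by
    intro a ha y
    conv_lhs => rw [show y = y 0 • (Pi.single 0 1 : (Fin 2 → F)) + y 1 • (Pi.single 1 1 : (Fin 2 → F)) by
      funext i; fin_cases i <;> simp]
    rw [hadd, hlin a ha, hlin a ha]
    funext i
    simp [mat, Matrix.mulVec, dotProduct, Fin.sum_univ_two, mul_comm]
  have hdet : ∀ a ∈ τ.ker, (mat a).det = 1 := by
    intro a ha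
    have hpow : ∀ n : ℕ, ∀ y, g (a ^ n) y = ((mat a) ^ n).mulVec y := by
      intro n
      induction n with
      | zero => intro y; rw [pow_zero, pow_zero, hg1, Matrix.one_mulVec]
      | succ n ih => intro y; rw [pow_succ, pow_succ, hgm, ih, hmat a ha, Matrix.mulVec_mulVec]
    have h1 : (mat a) ^ p = 1 := Matrix.ext_of_mulVec_single fun j => by
      rw [← hpow, hexp, hg1, Matrix.one_mulVec]
    have h2 := congrArg Matrix.det h1
    rw [Matrix.det_pow, Matrix.det_one] at h2
    have h3 : ((mat a).det - 1) ^ p = 0 := by rw [sub_pow_char, h2, one_pow, sub_self]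
    exact sub_eq_zero.1 (eq_zero_of_pow_eq_zero h3)
  let θ : ↥τ.ker →* Matrix.SpecialLinearGroup (Fin 2) F :=
    MonoidHom.mk' (fun a => ⟨mat a, hdet a a.2⟩) fun a b => Subtype.ext <|
      Matrix.ext_of_mulVec_single fun j => by
        show (mat (a * b : A)).mulVec _ = ((mat a) * (mat b)).mulVec _
        rw [← hmat _ (mul_mem a.2 b.2), hgm, hmat _ b.2, hmat _ a.2, Matrix.mulVec_mulVec]
  have hθ : ∀ (a : τ.ker) y, g a y = ((θ a : Matrix.SpecialLinearGroup (Fin 2) F) :
      Matrix (Fin 2) (Fin 2) F).mulVec y := fun a y => hmat a a.2 y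
  have hker : Nat.card θ.ker = Nat.card {a : A // ∀ y, g a y = y} := by
    refine Nat.card_congr
      { toFun := fun a => ⟨(a : τ.ker), fun y => by
          rw [hθ, MonoidHom.mem_ker.1 a.2, Matrix.SpecialLinearGroup.coe_one, Matrix.one_mulVec]⟩
        invFun := fun a => ⟨⟨a, MonoidHom.mem_ker.2 (RingEquiv.ext fun c => ?_)⟩,
          MonoidHom.mem_ker.2 (Subtype.ext (Matrix.ext_of_mulVec_single fun j => ?_))⟩
        left_inv := fun a => rfl, right_inv := fun a => rfl }
    · have h := hsl a c x₀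
      rw [a.2, a.2] at h
      exact (smul_left_injective F hx₀ h).symm
    · show (mat a).mulVec _ = (1 : Matrix (Fin 2) (Fin 2) F).mulVec _
      rw [Matrix.one_mulVec, ← hmat a.1 (MonoidHom.mem_ker.2 (RingEquiv.ext fun c => by
        have h := hsl a c x₀
        rw [a.2, a.2] at h
        exact (smul_left_injective F hx₀ h).symm)), a.2]
  have hcard : Nat.card A = Nat.card S * (Nat.card θ.range * Nat.card θ.ker) := by
    rw [Subgroup.card_eq_card_quotient_mul_card_subgroup τ.ker,
      Nat.card_congr (QuotientGroup.quotientKerEquivRange τ).toEquiv,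
      Subgroup.card_eq_card_quotient_mul_card_subgroup θ.ker,
      Nat.card_congr (QuotientGroup.quotientKerEquivRange θ).toEquiv]
  have hF : Nat.card F = Nat.card K₀ ^ Nat.card S := by
    haveI : Fintype S := Fintype.ofFinite _
    haveI : FaithfulSMul S F := ⟨fun h => Subtype.ext (RingEquiv.ext h)⟩
    rw [Module.natCard_eq_pow_finrank (K := K₀) (V := F), FixedPoints.finrank_eq_card,
      Nat.card_eq_fintype_card (α := S)]
  have hbound : Nat.card θ.range * Nat.card {y : (Fin 2 → F) // ∀ a, g a y = y} ≤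
      Nat.card K₀ * Nat.card K₀ := by
    by_cases hind : ∃ z : (Fin 2 → F), (∀ a, g a z = z) ∧ dt y₀ z ≠ 0
    · obtain ⟨z, hz, hdz⟩ := hind
      have h1 : Nat.card θ.range = 1 := by
        rw [Subgroup.card_eq_one, eq_bot_iff]
        rintro _ ⟨a, rfl⟩
        refine Subgroup.mem_bot.2 (Subtype.ext (Matrix.ext_of_mulVec_single fun j => ?_))
        obtain ⟨u, v, huv⟩ := exists_coord hdz (Pi.single j 1)
        show (mat a).mulVec _ = (1 : Matrix (Fin 2) (Fin 2) F).mulVec _
        rw [Matrix.one_mulVec, ← hmat _ a.2]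
        conv_lhs => rw [huv]
        rw [hadd, hlin _ a.2, hlin _ a.2, hy₀, hz, ← huv]
      rw [h1, one_mul]
      choose u v huv using fun y : (Fin 2 → F) => exists_coord hdz y
      have hfix : ∀ y : {y : (Fin 2 → F) // ∀ a, g a y = y}, u y.1 ∈ K₀ ∧ v y.1 ∈ K₀ := by
        intro y
        have h : ∀ a, σ a (u y.1) = u y.1 ∧ σ a (v y.1) = v y.1 := by
          intro a
          have h := y.2 a
          rw [huv y.1, hadd, hsl, hsl, hy₀, hz] at h
          have e0 := congrArg (dt y₀) h
          have e1 := congrArg (fun w => dt w z) h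
          simp [dt] at e0 e1
          constructor
          · refine mul_right_cancel₀ hdz ?_
            simp only [dt]; linear_combination e1
          · refine mul_right_cancel₀ hdz ?_
            simp only [dt]; linear_combination e0
        exact ⟨hmem _ fun a => (h a).1, hmem _ fun a => (h a).2⟩
      rw [← Nat.card_prod]
      refine Nat.card_le_card_of_injective
        (fun y => ((⟨_, (hfix y).1⟩ : K₀), (⟨_, (hfix y).2⟩ : K₀))) fun y y' h => Subtype.ext ?_
      simp only [Prod.mk.injEq, Subtype.mk.injEq] at h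
      rw [huv y.1, huv y'.1, h.1, h.2]
    push Not at hind
    refine Nat.mul_le_mul ?_ ?_
    swap
    · choose c hc using fun y : {y : (Fin 2 → F) // ∀ a, g a y = y} => exists_smul_of_dt hy0 (hind y.1 y.2)
      refine Nat.card_le_card_of_injective (fun y => (⟨c y, hmem _
        (fixed_ratio g σ hsl hy0 hy₀ fun a => by rw [← hc]; exact y.2 a)⟩ : K₀))
        fun y y' h => Subtype.ext ?_
      rw [hc y, hc y', show c y = c y' from congrArg Subtype.val h]
    -- the coordinate of an element of the linear part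
    have hco : ∀ a : τ.ker, ∃ α : F, g a y₁ = α • y₀ + y₁ := by
      intro a
      obtain ⟨u, v, huv⟩ := exists_coord hy₁ (g a y₁)
      refine ⟨u, ?_⟩
      have h1 : dt (g a y₀) (g a y₁) = dt y₀ y₁ := by
        rw [hθ, hθ]
        have hd := (θ a).2
        rw [Matrix.det_fin_two] at hd
        simp [dt, Matrix.mulVec, dotProduct, Fin.sum_univ_two]
        linear_combination (y₀ 0 * y₁ 1 - y₀ 1 * y₁ 0) * hd
      rw [hy₀, huv] at h1
      have h2 : (v - 1) * dt y₀ y₁ = 0 := by
        simp [dt] at h1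
        simp only [dt]; linear_combination h1
      rw [huv, sub_eq_zero.1 ((mul_eq_zero.1 h2).resolve_right hy₁), one_smul]
    choose α hα using hco
    have hαinj : ∀ a a', α a = α a' → θ a = θ a' := by
      intro a a' h
      refine Subtype.ext (Matrix.ext_of_mulVec_single fun j => ?_)
      show (mat a).mulVec _ = (mat a').mulVec _
      rw [← hmat _ a.2, ← hmat _ a'.2]
      obtain ⟨u, v, huv⟩ := exists_coord hy₁ (Pi.single j 1)
      rw [huv, hadd, hadd, hlin _ a.2, hlin _ a.2, hlin _ a'.2, hlin _ a'.2, hy₀, hy₀, hα, hα, h]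
    by_cases hz : ∀ a, α a = 0
    · refine le_trans (le_of_eq ?_) (Nat.card_pos : 0 < Nat.card K₀)
      rw [Subgroup.card_eq_one, eq_bot_iff]
      rintro _ ⟨a, rfl⟩
      rw [Subgroup.mem_bot, ← map_one θ]
      refine hαinj _ _ ?_
      rw [hz, hz]
    push Not at hz
    obtain ⟨a₀, ha₀⟩ := hz
    have hrat : ∀ a, α a / α a₀ ∈ K₀ := by
      intro a
      refine hmem _ fun b => ?_
      obtain ⟨δ, β, hb⟩ := exists_coord hy₁ (g b y₁)
      have hkey : ∀ a : τ.ker, σ b (α a) = β * α a := by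
        intro a
        have h1 : g (a : A) (g b y₁) = g b (g a y₁) := by rw [← hgm, ← hgm, hcomm]
        rw [hb, hadd, hlin _ a.2, hlin _ a.2, hy₀, hα, hadd, hsl, hy₀, hb] at h1
        have e := congrArg (fun w => dt w y₁) h1
        simp [dt] at e
        refine mul_right_cancel₀ hy₁ ?_
        simp only [dt]; linear_combination -e
      have h0 := hkey a₀
      have hb0 : σ b (α a₀) ≠ 0 := fun h => ha₀ (by
        have h' := congrArg (σ b⁻¹) h
        rw [← hσm, inv_mul_cancel, hσ1] at h'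
        rw [h', ← hτ, map_zero])
      have h2 : σ b (α a / α a₀) * σ b (α a₀) = σ b (α a) := by
        rw [← hσmul, div_mul_cancel₀ _ ha₀]
      have hβ : β ≠ 0 := fun h => hb0 (by rw [h0, h, zero_mul])
      rw [h0, hkey a] at h2
      refine mul_right_cancel₀ (mul_ne_zero hβ ha₀) ?_
      linear_combination h2 - β * div_mul_cancel₀ (α a) ha₀
    refine Nat.card_le_card_of_injective
      (fun r => (⟨α (Classical.choose r.2) / α a₀, hrat _⟩ : K₀)) fun r r' h => Subtype.ext ?_
    have h1 := congrArg Subtype.val h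
    rw [div_left_inj' ha₀] at h1
    rw [← Classical.choose_spec r.2, ← Classical.choose_spec r'.2]
    exact hαinj _ _ h1
  set q₀ := Nat.card K₀
  set s := Nat.card S with hs
  have hq : 2 ≤ q₀ := Finite.one_lt_card
  have hs1 : 1 ≤ s := Nat.card_pos
  have hle : s * (q₀ * q₀) ≤ q₀ ^ s * q₀ ^ s ∧ (q₀ ^ s * q₀ ^ s ≤ s * (q₀ * q₀) → s = 1) := by
    obtain ⟨t, ht⟩ : ∃ t, s = t + 1 := ⟨s - 1, by omega⟩
    rw [ht]
    have h1 : t < 2 ^ t := Nat.lt_two_pow_self
    have h2 : 2 ^ t ≤ q₀ ^ t := Nat.pow_le_pow_left hq t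
    have h3 : 0 < q₀ * q₀ := Nat.mul_pos (by omega) (by omega)
    have h4 : q₀ ^ (t + 1) * q₀ ^ (t + 1) = q₀ ^ t * q₀ ^ t * (q₀ * q₀) := by ring
    rw [h4]
    refine ⟨Nat.mul_le_mul_right _ (by nlinarith), fun h => ?_⟩
    have h5 := Nat.le_of_mul_le_mul_right h h3
    rcases Nat.eq_zero_or_pos t with rfl | ht0
    · rfl
    · have : 2 ^ 1 ≤ 2 ^ t := Nat.pow_le_pow_right (by norm_num) ht0
      nlinarith
  have hmain : Nat.card A * Nat.card {y : (Fin 2 → F) // ∀ a, g a y = y} ≤
      Nat.card {a : A // ∀ y, g a y = y} * (s * (q₀ * q₀)) := by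
    rw [hcard, hker]
    calc s * (Nat.card θ.range * Nat.card {a : A // ∀ y, g a y = y}) *
          Nat.card {y : (Fin 2 → F) // ∀ a, g a y = y}
        = Nat.card {a : A // ∀ y, g a y = y} *
          (s * (Nat.card θ.range * Nat.card {y : (Fin 2 → F) // ∀ a, g a y = y})) := by ring
      _ ≤ _ := Nat.mul_le_mul_left _ (Nat.mul_le_mul_left _ hbound)
  rw [hF]
  refine ⟨hmain.trans (Nat.mul_le_mul_left _ hle.1), fun h a => ?_⟩
  have hs' : s = 1 := hle.2 (Nat.le_of_mul_le_mul_left (h.trans hmain) (by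
    haveI : Nonempty {a : A // ∀ y, g a y = y} := ⟨⟨1, hg1⟩⟩
    exact Nat.card_pos))
  have ha : a ∈ τ.ker := MonoidHom.mem_ker.2 (Subgroup.mem_bot.1
    (Subgroup.card_eq_one.1 hs' ▸ (⟨a, rfl⟩ : τ a ∈ τ.range)))
  exact ⟨θ ⟨a, ha⟩, fun y => hθ ⟨a, ha⟩ y⟩

end H80.LCSS
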