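import Cfsg.Agent.H78.PMin.Big
import Cfsg.Agent.H80.LCSS.Semi

/-!
Elementary abelian groups normalising a block are no over-offenders on it.
-/

set_option autoImplicit false
set_option linter.unusedSectionVars false
set_option linter.style.haveILetI false

open Subgroup
open scoped commutatorElement MatrixGroups
open H70 (cj)
open H78.PMin

namespace H80.LCSS

variable {G : Type*} [Group G] [Finite G] {p : ℕ} [Fact p.Prime]
variable {V E D : Subgroup G} {F : Type} [Field F] [Fintype F] (b : Block V E D F)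
include b

theorem big_block : 4 * Nat.card (fx V E) ≤ Nat.card V := by
  rw [b.card_V]
  have : 1 < Fintype.card F := Fintype.one_lt_card
  exact Nat.mul_le_mul_right _ (by nlinarith)

theorem loc_block (hV : Cfsg.IsElementaryAbelian p V) {A : Subgroup G}
    (hAV : A ≤ normalizer (V : Set G)) (hA : Cfsg.IsElementaryAbelian p A)
    (hAE : ∀ a ∈ A, cj a E = E) :
    Nat.card A * Nat.card ↥(fx V A ⊔ fx V E) ≤
        Nat.card ↥(A ⊓ centralizer (brk V E : Set G)) * Nat.card V ∧
      (Nat.card ↥(A ⊓ centralizer (brk V E : Set G)) * Nat.card V ≤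
          Nat.card A * Nat.card ↥(fx V A ⊔ fx V E) →
        ∀ a ∈ A, ∃ e ∈ E, e⁻¹ * a ∈ centralizer (brk V E : Set G)) := by
  classical
  set Z := fx V E with hZ
  have hcV : ∀ {a v : G}, a ∈ normalizer (V : Set G) → v ∈ V → a * v * a⁻¹ ∈ V :=
    fun ha hv => H75.conj_mem_of_mem_normalizer ha hv
  have hinvZ : ∀ {a : G}, a ∈ normalizer (V : Set G) → cj a E = E → ∀ z ∈ Z, a * z * a⁻¹ ∈ Z := by
    intro a ha hE z hz
    show a * z * a⁻¹ ∈ fx V E
    rw [← hE, ← cj_fx ha, H70.mem_cj]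
    replace hz : z ∈ fx V E := hz
    simpa [mul_assoc, Subgroup.mem_inf] using hz
  let sec : (Fin 2 → F) → G := fun t => Classical.choose (b.surj t)
  have hsec : ∀ t, sec t ∈ V ∧ b.ψ (sec t) = t := fun t => Classical.choose_spec (b.surj t)
  -- the induced map
  let act : G → (Fin 2 → F) → Fin 2 → F := fun a t => b.ψ (a * sec t * a⁻¹)
  have hact : ∀ {a : G}, a ∈ normalizer (V : Set G) → cj a E = E → ∀ v ∈ V,
      b.ψ (a * v * a⁻¹) = act a (b.ψ v) := by
    intro a ha hE v hv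
    have h1 : (sec (b.ψ v))⁻¹ * v ∈ Z := b.eq_of_map_eq (hsec _).1 hv (hsec _).2
    have h2 := hinvZ ha hE _ h1
    show b.ψ (a * v * a⁻¹) = b.ψ (a * sec (b.ψ v) * a⁻¹)
    rw [show a * v * a⁻¹ = a * sec (b.ψ v) * a⁻¹ * (a * ((sec (b.ψ v))⁻¹ * v) * a⁻¹) by group,
      b.map_mul _ (hcV ha (hsec _).1) _ h2.1, (b.zero_iff _ h2.1).2 h2, add_zero]
  have hE : ∀ (e : E) (y : Fin 2 → F), act (e : G) y = (b.ρ e : Matrix (Fin 2) (Fin 2) F).mulVec y :=
    fun e y => by
      show b.ψ _ = _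
      rw [b.equiv e _ (hsec y).1, (hsec y).2]
  -- trivial action
  have htriv : ∀ a : G, a ∈ normalizer (V : Set G) → cj a E = E →
      ((∀ y, act a y = y) ↔ a ∈ centralizer (brk V E : Set G)) := by
    intro a ha hEa
    constructor
    · intro h
      have hcE : ∀ e ∈ E, a * e * a⁻¹ = e := by
        intro e he
        have he' : a * e * a⁻¹ ∈ E := hEa.le (by rw [H70.mem_cj]; simpa [mul_assoc] using he)
        refine congrArg Subtype.val (b.ρ.injective (a₁ := ⟨_, he'⟩) (a₂ := ⟨e, he⟩)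
          (Subtype.ext (Matrix.ext_of_mulVec_single fun j => ?_)))
        rw [← hE, ← hE]
        have hev : e * (a⁻¹ * sec (Pi.single j 1) * a) * e⁻¹ ∈ V := hcV (b.norm he)
          (by simpa using hcV (inv_mem ha) (hsec (Pi.single j 1)).1)
        have h1 := h (b.ψ (e * (a⁻¹ * sec (Pi.single j 1) * a) * e⁻¹))
        rw [← hact ha hEa _ hev] at h1
        have h2 : b.ψ (a⁻¹ * sec (Pi.single j 1) * a) = Pi.single j 1 := by
          have hv : a⁻¹ * sec (Pi.single j 1) * a ∈ V := by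
            simpa using hcV (inv_mem ha) (hsec (Pi.single j 1)).1
          have h3 := hact ha hEa _ hv
          rw [h, show a * (a⁻¹ * sec (Pi.single j 1) * a) * a⁻¹ = sec (Pi.single j 1) by group,
            (hsec _).2] at h3
          exact h3.symm
        show b.ψ (a * e * a⁻¹ * sec (Pi.single j 1) * (a * e * a⁻¹)⁻¹) = _
        rw [show a * e * a⁻¹ * sec (Pi.single j 1) * (a * e * a⁻¹)⁻¹ =
          a * (e * (a⁻¹ * sec (Pi.single j 1) * a) * e⁻¹) * a⁻¹ by group, h1,
          b.equiv ⟨e, he⟩ _ (by simpa using hcV (inv_mem ha) (hsec (Pi.single j 1)).1), h2]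
        show _ = b.ψ (e * sec (Pi.single j 1) * e⁻¹)
        rw [b.equiv ⟨e, he⟩ _ (hsec _).1, (hsec _).2]
      have hle : brk V E ≤ centralizer ({a} : Set G) := brk_le fun e he v hv => by
        rw [mem_centralizer_singleton_iff]
        have hz : v⁻¹ * (a * v * a⁻¹) ∈ Z :=
          b.eq_of_map_eq hv (hcV ha hv) (by rw [hact ha hEa v hv, h])
        have h1 : a * ⁅e, v⁆ * a⁻¹ = ⁅e, v⁆ := by
          calc a * ⁅e, v⁆ * a⁻¹ = ⁅a * e * a⁻¹, a * v * a⁻¹⁆ := by
                simp only [commutatorElement_def]; group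
            _ = ⁅e, v * (v⁻¹ * (a * v * a⁻¹))⁆ := by rw [hcE e he]; simp only [mul_inv_cancel_left]
            _ = ⁅e, v⁆ := by
                rw [comm_mul hV (b.norm he) hv hz.1, show ⁅e, v⁻¹ * (a * v * a⁻¹)⁆ = 1 from
                  commutatorElement_eq_one_iff_mul_comm.2 (fx_comm hz he), mul_one]
        exact (mul_inv_eq_iff_eq_mul.1 h1).symm
      exact mem_centralizer_iff.2 fun u hu => mem_centralizer_singleton_iff.1 (hle hu)
    · intro h y
      obtain ⟨w, hw, z, hz, he⟩ := b.mem_brk_vals (sec y) (hsec y).1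
      have hwV : w ∈ V := by
        rw [show w = sec y * z⁻¹ by rw [he, mul_inv_cancel_right]]
        exact mul_mem (hsec y).1 (inv_mem hz.1)
      have hz' := hinvZ ha hEa z hz
      show b.ψ (a * sec y * a⁻¹) = y
      conv_rhs => rw [← (hsec y).2, he, b.map_mul _ hwV _ hz.1, (b.zero_iff _ hz.1).2 hz]
      rw [he, show a * (w * z) * a⁻¹ = a * w * a⁻¹ * (a * z * a⁻¹) by group,
        ← mem_centralizer_iff.1 h w hw, mul_inv_cancel_right, b.map_mul _ hwV _ hz'.1,
        (b.zero_iff _ hz'.1).2 hz']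
  have hAn : ∀ a : A, (a : G) ∈ normalizer (V : Set G) := fun a => hAV a.2
  have hg1 : ∀ y, act ((1 : A) : G) y = y := fun y => by
    show b.ψ _ = y
    simp [(hsec y).2]
  have hgm : ∀ (a c : A) y, act ((a * c : A) : G) y = act (a : G) (act (c : G) y) := by
    intro a c y
    show b.ψ (((a : G) * c) * sec y * ((a : G) * c)⁻¹) = _
    rw [show ((a : G) * c) * sec y * ((a : G) * c)⁻¹ = (a : G) * ((c : G) * sec y * (c : G)⁻¹) * (a : G)⁻¹
      by group, hact (hAn a) (hAE a a.2) _ (hcV (hAn c) (hsec y).1)]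
  have hadd : ∀ (a : A) y z, act (a : G) (y + z) = act (a : G) y + act (a : G) z := by
    intro a y z
    have h1 := b.map_mul _ (hcV (hAn a) (hsec y).1) _ (hcV (hAn a) (hsec z).1)
    rw [show (a : G) * sec y * (a : G)⁻¹ * ((a : G) * sec z * (a : G)⁻¹) =
      (a : G) * (sec y * sec z) * (a : G)⁻¹ by group,
      hact (hAn a) (hAE a a.2) _ (mul_mem (hsec y).1 (hsec z).1),
      b.map_mul _ (hsec y).1 _ (hsec z).1, (hsec y).2, (hsec z).2] at h1
    exact h1
  -- semilinearity
  have hscal : ∀ f : (Fin 2 → F) → Fin 2 → F, (∀ y z, f (y + z) = f y + f z) →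
      (∀ (M : SL(2, F)) y, f ((M : Matrix (Fin 2) (Fin 2) F).mulVec y) =
        (M : Matrix (Fin 2) (Fin 2) F).mulVec (f y)) → ∃ c : F, ∀ y, f y = c • y := by
    intro f hfa hfM
    have hu : ∀ s y, f (![y 0 + s * y 1, y 1]) = ![f y 0 + s * f y 1, f y 1] := by
      intro s y
      have h1 := hfM (H98.uu s) y
      have e : ∀ z : Fin 2 → F, (H98.uu s : Matrix (Fin 2) (Fin 2) F).mulVec z =
          ![z 0 + s * z 1, z 1] := fun z => by
        funext i
        fin_cases i <;> simp [H98.coe_uu, Matrix.mulVec, dotProduct, Fin.sum_univ_two]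
      rwa [e, e] at h1
    have hl : ∀ s y, f (![y 0, s * y 0 + y 1]) = ![f y 0, s * f y 0 + f y 1] := by
      intro s y
      have h1 := hfM (H98.ll s) y
      have e : ∀ z : Fin 2 → F, (H98.ll s : Matrix (Fin 2) (Fin 2) F).mulVec z =
          ![z 0, s * z 0 + z 1] := fun z => by
        funext i
        fin_cases i <;> simp [H98.coe_ll, Matrix.mulVec, dotProduct, Fin.sum_univ_two]
      rwa [e, e] at h1
    have hx : ∀ x, f ![x, 0] 1 = 0 := fun x => by
      have h1 := congrFun (hu 1 ![x, 0]) 0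
      simpa [eq_comm] using h1
    have hy : ∀ y, f ![0, y] 0 = 0 := fun y => by
      have h1 := congrFun (hl 1 ![0, y]) 1
      simpa [eq_comm] using h1
    refine ⟨f ![0, 1] 1, fun y => ?_⟩
    have h1 : ∀ x, f ![x, 0] 0 = x * f ![0, 1] 1 := fun x => by
      have h2 := congrFun (hu x ![0, 1]) 0
      have h3 := congrFun (hfa ![x, 0] ![0, 1]) 0
      simp [hy] at h2 h3 ⊢
      exact h3.symm.trans h2
    have h4 : ∀ z, f ![0, z] 1 = z * f ![0, 1] 1 := fun z => by
      have h2 := congrFun (hl z ![1, 0]) 1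
      have h3 := congrFun (hfa ![1, 0] ![0, z]) 1
      simp [hx, h1] at h2 h3 ⊢
      exact h3.symm.trans h2
    rw [show y = ![y 0, 0] + ![0, y 1] by funext i; fin_cases i <;> simp, hfa]
    funext i
    fin_cases i
    · show f ![y 0, 0] 0 + f ![0, y 1] 0 = f ![0, 1] 1 * (y 0 + 0)
      rw [h1, hy, add_zero, add_zero, mul_comm]
    · show f ![y 0, 0] 1 + f ![0, y 1] 1 = f ![0, 1] 1 * (0 + y 1)
      rw [hx, h4, zero_add, zero_add, mul_comm]
  have hσ : ∀ (a : A) (c : F), ∃ c' : F, ∀ y, act (a : G) (c • y) = c' • act (a : G) y := by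
    intro a c
    have hinv : ∀ y, act (a : G) (act ((a⁻¹ : A) : G) y) = y := fun y => by
      rw [← hgm, mul_inv_cancel, hg1]
    have hinv' : ∀ y, act ((a⁻¹ : A) : G) (act (a : G) y) = y := fun y => by
      rw [← hgm, inv_mul_cancel, hg1]
    obtain ⟨c', hc'⟩ := hscal (fun y => act (a : G) (c • act ((a⁻¹ : A) : G) y))
      (fun y z => by rw [hadd, smul_add, hadd]) fun M y => by
      set e := b.ρ.symm M with he
      have hM : ∀ w, (M : Matrix (Fin 2) (Fin 2) F).mulVec w = act (e : G) w := fun w => by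
        rw [hE, he, MulEquiv.apply_symm_apply]
      have he' : (a : G)⁻¹ * e * (a : G) ∈ E := by
        exact H70.mem_cj.1 ((hAE a a.2).ge e.2)
      set e' : E := ⟨_, he'⟩
      have hcomm : ∀ w, act (e : G) (act (a : G) w) = act (a : G) (act (e' : G) w) := fun w => by
        show b.ψ ((e : G) * sec (b.ψ ((a : G) * sec w * (a : G)⁻¹)) * (e : G)⁻¹) = _
        rw [b.equiv e _ (hsec _).1, (hsec _).2, ← b.equiv e _ (hcV (hAn a) (hsec w).1),
          show (e : G) * ((a : G) * sec w * (a : G)⁻¹) * (e : G)⁻¹ =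
            (a : G) * ((e' : G) * sec w * (e' : G)⁻¹) * (a : G)⁻¹ by
            show _ = (a : G) * ((a : G)⁻¹ * e * a * sec w * ((a : G)⁻¹ * e * a)⁻¹) * (a : G)⁻¹
            group,
          hact (hAn a) (hAE a a.2) _ (hcV (b.norm e'.2) (hsec w).1)]
      rw [hM, hM, hcomm]
      congr 1
      rw [show act (e : G) y = act (a : G) (act (e' : G) (act ((a⁻¹ : A) : G) y)) by
        rw [← hcomm, hinv], hinv', hE e', hE e', Matrix.mulVec_smul]
    refine ⟨c', fun y => ?_⟩
    have := hc' (act (a : G) y)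
    simpa only [hinv'] using this
  choose σ hσ using hσ
  have hAp : IsPGroup p A := fun a => ⟨1, Subtype.ext (by simpa using hA.2 _ a.2)⟩
  have hchar : (p : F) = 0 := by
    have h1 : b.ψ ((sec ![1, 0]) ^ p) = (p : F) • (![1, 0] : Fin 2 → F) := by
      have hn : ∀ n : ℕ, b.ψ ((sec ![1, 0]) ^ n) = (n : F) • (![1, 0] : Fin 2 → F) := by
        intro n
        induction n with
        | zero => rw [pow_zero, Nat.cast_zero, zero_smul, b.map_one]
        | succ n ih =>
          rw [pow_succ, b.map_mul _ (pow_mem (hsec _).1 n) _ (hsec _).1, ih, (hsec _).2,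
            Nat.cast_succ, add_smul, one_smul]
      exact hn p
    rw [hV.2 _ (hsec _).1, b.map_one] at h1
    simpa using (congrFun h1 0).symm
  obtain ⟨m1, m2⟩ := main_bound (A := A) (fun a => act (a : G)) σ hAp
    (fun a c => Subtype.ext (H10.comm_of_elem hA a.2 c.2)) hchar
    (fun a => Subtype.ext (by simpa using hA.2 _ a.2)) hg1 hgm hadd hσ
  have hK : Nat.card {a : A // ∀ y, act (a : G) y = y} =
      Nat.card ↥(A ⊓ centralizer (brk V E : Set G)) :=
    Nat.card_congr
      { toFun := fun a => ⟨a.1.1, a.1.2, (htriv _ (hAn a.1) (hAE _ a.1.2)).1 a.2⟩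
        invFun := fun a => ⟨⟨a.1, a.2.1⟩,
          (htriv _ (hAV a.2.1) (hAE _ a.2.1)).2 a.2.2⟩
        left_inv := fun a => rfl, right_inv := fun a => rfl }
  have hS : Nat.card ↥(fx V A ⊔ Z) ≤
      Nat.card {y : Fin 2 → F // ∀ a : A, act (a : G) y = y} * Nat.card Z := by
    set X := fx V A ⊔ Z with hX
    have hXV : X ≤ V := sup_le inf_le_left inf_le_left
    let f : X →* Multiplicative (Fin 2 → F) :=
      MonoidHom.mk' (fun v => Multiplicative.ofAdd (b.ψ (v : G))) fun u v => by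
        rw [← ofAdd_add, ← b.map_mul _ (hXV u.2) _ (hXV v.2)]; rfl
    rw [Subgroup.card_eq_card_quotient_mul_card_subgroup f.ker,
      Nat.card_congr (QuotientGroup.quotientKerEquivRange f).toEquiv]
    refine Nat.mul_le_mul ?_ (Nat.card_le_card_of_injective (fun v => (⟨((v : X) : G),
      (b.zero_iff _ (hXV v.1.2)).1 (by
        simpa [f, ofAdd_eq_one] using MonoidHom.mem_ker.1 v.2)⟩ : Z))
      fun u v h => Subtype.ext (Subtype.ext (congrArg (fun z : Z => (z : G)) h)))
    refine Nat.card_le_card_of_injective (fun w => ⟨Multiplicative.toAdd w.1, fun a => ?_⟩)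
      fun u v h => Subtype.ext (Multiplicative.toAdd.injective (by simpa using congrArg Subtype.val h))
    obtain ⟨_, ⟨v, hv⟩, rfl⟩ := w
    show act (a : G) (b.ψ v) = b.ψ v
    have hvv : v ∈ fx V A ⊔ Z := hv
    obtain ⟨x, hx, z, hz, rfl⟩ := H10.exists_mul_of_mem_sup (le_normalizer_of_le_elem hV
      (inf_le_left : fx V A ≤ V) (inf_le_left : Z ≤ V)) hvv
    rw [b.map_mul _ hx.1 _ hz.1, (b.zero_iff _ hz.1).2 hz, add_zero,
      ← hact (hAn a) (hAE a a.2) _ hx.1, fx_conj hx a.2]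
  have hV' : Nat.card V = Nat.card F * Nat.card F * Nat.card Z := by
    rw [b.card_V, Nat.card_eq_fintype_card (α := F)]
  rw [hK] at m1 m2
  refine ⟨?_, fun h a ha => ?_⟩
  · calc Nat.card A * Nat.card ↥(fx V A ⊔ Z)
        ≤ Nat.card A * (Nat.card {y : Fin 2 → F // ∀ a : A, act (a : G) y = y} * Nat.card Z) :=
          Nat.mul_le_mul_left _ hS
      _ = Nat.card A * Nat.card {y : Fin 2 → F // ∀ a : A, act (a : G) y = y} * Nat.card Z := by ring
      _ ≤ _ := Nat.mul_le_mul_right _ m1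
      _ = _ := by rw [hV']; ring
  · have h1 := h.trans (Nat.mul_le_mul_left _ hS)
    rw [hV', ← mul_assoc, ← mul_assoc, ← mul_assoc] at h1
    have h2 := Nat.le_of_mul_le_mul_right h1 Nat.card_pos
    rw [mul_assoc (Nat.card ↥(A ⊓ centralizer (brk V E : Set G)))] at h2
    obtain ⟨M, hM⟩ := m2 h2 ⟨a, ha⟩
    refine ⟨(b.ρ.symm M : G), (b.ρ.symm M).2, ?_⟩
    have hn : (b.ρ.symm M : G) ∈ normalizer (V : Set G) := b.norm (b.ρ.symm M).2
    have hnE : cj ((b.ρ.symm M : G)⁻¹ * a) E = E := by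
      rw [← H70.cj_cj, hAE a ha, H70.cj_of_mem (inv_mem (b.ρ.symm M).2)]
    refine (htriv _ (mul_mem (inv_mem hn) (hAV ha)) hnE).1 fun y => ?_
    show b.ψ (((b.ρ.symm M : G)⁻¹ * a) * sec y * ((b.ρ.symm M : G)⁻¹ * a)⁻¹) = y
    rw [show ((b.ρ.symm M : G)⁻¹ * a) * sec y * ((b.ρ.symm M : G)⁻¹ * a)⁻¹ =
      ((b.ρ.symm M)⁻¹ : E) * (a * sec y * a⁻¹) * (((b.ρ.symm M)⁻¹ : E) : G)⁻¹ by
        push_cast; group,
      b.equiv _ _ (hcV (hAV ha) (hsec y).1), hact (hAV ha) (hAE a ha) _ (hsec y).1, (hsec y).2]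
    rw [hM y, map_inv, MulEquiv.apply_symm_apply, Matrix.mulVec_mulVec,
      ← Matrix.SpecialLinearGroup.coe_mul, inv_mul_cancel, Matrix.SpecialLinearGroup.coe_one,
      Matrix.one_mulVec]

end H80.LCSS
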