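import Cfsg.Agent.H78.PMin.SymmComp

/-!
Elementary abelian groups normalising a symmetric component are no over-offenders on it.
-/

set_option autoImplicit false
set_option linter.unusedSectionVars false
set_option linter.style.haveILetI false

open Subgroup
open scoped commutatorElement
open H70 (cj)
open H78.PMin
open H78.PMin.MaxFrame (Pr Compat)

namespace H80.LCSS

variable {G : Type*} [Group G] [Finite G] [Fact (Nat.Prime 2)] {V P T M A₀ : Subgroup G}
variable {c : Ctx 2 V P T M A₀} {hA₀ : Nat.card A₀ = 2} {n : ℕ} {e : Fin n → Tv P A₀ → ZMod 2}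
  (f : MaxFrame c hA₀ e)
include f

theorem wsp_inf_fx {u : G} (hu : u ∈ f.wsp) (hz : u ∈ fx V f.grp) : u = 1 := by
  have h := f.sec_psi hu
  rwa [(f.mem_fx_grp (f.wsp_le hu)).1 hz, f.sec_zero, eq_comm] at h

theorem big_sym : 4 * Nat.card (fx V f.grp) ≤ Nat.card V := by
  classical
  have h3 := f.three
  let d : Fin n → Fin n → ZMod 2 := fun i k => if k = i then 1 else 0
  let i₀ : Fin n := ⟨0, by omega⟩
  let i₁ : Fin n := ⟨1, by omega⟩
  let i₂ : Fin n := ⟨2, by omega⟩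
  let w : Fin 4 → Fin n → ZMod 2 := ![0, d i₀ + d i₁, d i₀ + d i₂, d i₁ + d i₂]
  have hw0 : ∀ j, ∑ k, w j k = 0 := by
    intro j
    fin_cases j <;>
      simp [w, d, Finset.sum_add_distrib, CharTwo.add_self_eq_zero]
  have hwinj : Function.Injective w := by
    intro a a' h
    have e0 := congrFun h i₀
    have e1 := congrFun h i₁
    fin_cases a <;> fin_cases a' <;>
      simp [w, d, i₀, i₁, i₂, Fin.ext_iff] at e0 e1 ⊢
  let g : Fin 4 × fx V f.grp → V := fun x =>
    ⟨f.sec (w x.1) * x.2, mul_mem (f.sec_mem _) x.2.2.1⟩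
  have hg : Function.Injective g := by
    intro x y h
    have h1 : f.sec (w x.1) * x.2 = f.sec (w y.1) * (y.2 : G) := congrArg Subtype.val h
    have h2 := congrArg f.psi h1
    rw [f.psi_mul (f.sec_mem _) x.2.2.1, f.psi_mul (f.sec_mem _) y.2.2.1,
      (f.mem_fx_grp x.2.2.1).1 x.2.2, (f.mem_fx_grp y.2.2.1).1 y.2.2, add_zero, add_zero,
      f.psi_sec (hw0 _), f.psi_sec (hw0 _)] at h2
    have h3 := hwinj h2
    rw [h3] at h1
    exact Prod.ext h3 (Subtype.ext (mul_left_cancel h1))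
  have := Nat.card_le_card_of_injective g hg
  rwa [Nat.card_prod, Nat.card_eq_fintype_card (α := Fin 4), Fintype.card_fin] at this

theorem cent_of_compat {g : G} (h : Compat c hA₀ e g 1) :
    g ∈ centralizer (brk V f.grp : Set G) := by
  have hle : f.wsp ≤ centralizer ({g} : Set G) := by
    refine (closure_le _).2 ?_
    rintro _ ⟨x, ⟨k, l, hkl, hx⟩, rfl⟩
    obtain ⟨y, hy, hy'⟩ := h.2 x k l ⟨hkl, hx⟩
    obtain rfl : y = x := f.pr_inj hy' ⟨hkl, hx⟩
    refine mem_centralizer_singleton_iff.2 ?_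
    have h1 := c.ctr_conj hA₀ h.1 y
    rw [show c.tvConj hA₀ h.1 y = y from Subtype.ext hy.symm] at h1
    exact mul_inv_eq_iff_eq_mul.1 h1.symm |>.symm
  rw [f.brk_grp]
  exact mem_centralizer_iff.2 fun u hu => mem_centralizer_singleton_iff.1 (hle hu)

/-- An element normalising the component permutes the points. -/
theorem exists_compat' {g : G} (hg : g ∈ P) (hgn : cj g f.grp = f.grp) :
    ∃ σ : Equiv.Perm (Fin n), Compat c hA₀ e g σ := by
  by_cases h5 : 5 ≤ n
  · exact f.exists_compat h5 hg hgn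
  have h3 := f.three
  obtain ⟨m, hm⟩ := f.odd
  obtain rfl : n = 3 := by omega
  have hne : ∀ k : Fin 3, k + 1 ≠ k + 2 := by decide
  choose pm hpm using fun k : Fin 3 => f.exists_pr (hne k)
  have hcases : ∀ a b : Fin 3, a ≠ b → ∃ k, (a = k + 1 ∧ b = k + 2) ∨ (a = k + 2 ∧ b = k + 1) := by
    decide
  have hpm' : ∀ {x a b}, Pr c hA₀ e x a b → ∃ k, x = pm k ∧
      ((a = k + 1 ∧ b = k + 2) ∨ (a = k + 2 ∧ b = k + 1)) := by
    intro x a b hx
    obtain ⟨k, hk⟩ := hcases a b hx.1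
    refine ⟨k, ?_, hk⟩
    rcases hk with ⟨rfl, rfl⟩ | ⟨rfl, rfl⟩
    · exact f.pr_inj hx (hpm k)
    · exact f.pr_inj (f.pr_symm hx) (hpm k)
  have hτ : ∀ k, ∃ k', c.tvConj hA₀ hg (pm k) = pm k' := by
    intro k
    obtain ⟨a, b, hab, he⟩ := f.stable_of_norm hg hgn (hpm k)
    obtain ⟨k', hk', -⟩ := hpm' (⟨hab, he⟩ : Pr c hA₀ e (c.tvConj hA₀ hg (pm k)) a b)
    exact ⟨k', hk'⟩
  choose τ hτ using hτ
  have hpminj : Function.Injective pm := by
    intro k k' h
    have h1 := f.pr_unique (hpm k) (h ▸ hpm k' : Pr c hA₀ e (pm k) (k' + 1) (k' + 2))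
    have h2 : ∀ k k' : Fin 3, ((k' + 1 = k + 1 ∨ k' + 1 = k + 2) ∧
        (k' + 2 = k + 1 ∨ k' + 2 = k + 2)) → k = k' := by decide
    exact h2 k k' h1
  have hτinj : Function.Injective τ := fun k k' h => hpminj (Subtype.ext (by
    have h1 := congrArg Subtype.val ((hτ k).trans (h ▸ (hτ k').symm))
    simpa [Ctx.tvConj] using h1))
  set σ := Equiv.ofBijective τ (Finite.injective_iff_bijective.1 hτinj)
  refine ⟨σ, hg, fun x a b hx => ?_⟩
  obtain ⟨k, rfl, hk⟩ := hpm' hx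
  refine ⟨c.tvConj hA₀ hg (pm k), rfl, ?_⟩
  have hperm : ∀ (σ : Equiv.Perm (Fin 3)) k, (σ (k + 1) = σ k + 1 ∧ σ (k + 2) = σ k + 2) ∨
      (σ (k + 1) = σ k + 2 ∧ σ (k + 2) = σ k + 1) := by decide
  rw [hτ k]
  have h1 : pm (τ k) = pm (σ k) := rfl
  rw [h1]
  rcases hk with ⟨rfl, rfl⟩ | ⟨rfl, rfl⟩ <;> rcases hperm σ k with ⟨h2, h3⟩ | ⟨h2, h3⟩ <;>
    rw [h2, h3]
  exacts [hpm _, f.pr_symm (hpm _), f.pr_symm (hpm _), hpm _]

theorem loc_sym
    (hex : ∀ B : Subgroup G, B ≤ P → Cfsg.IsElementaryAbelian 2 B →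
      Nat.card B * Nat.card (fx V B) ≤ Nat.card V)
    {A : Subgroup G} (hAP : A ≤ P) (hA : Cfsg.IsElementaryAbelian 2 A)
    (hAE : ∀ a ∈ A, cj a f.grp = f.grp) :
    Nat.card A * Nat.card ↥(fx V A ⊔ fx V f.grp) ≤
        Nat.card ↥(A ⊓ centralizer (brk V f.grp : Set G)) * Nat.card V ∧
      (Nat.card ↥(A ⊓ centralizer (brk V f.grp : Set G)) * Nat.card V ≤
          Nat.card A * Nat.card ↥(fx V A ⊔ fx V f.grp) →
        ∀ a ∈ A, ∃ x ∈ f.grp, x⁻¹ * a ∈ centralizer (brk V f.grp : Set G)) := by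
  obtain ⟨ρ, hρ⟩ := f.exists_iso
  set U := brk V f.grp with hU
  have hex' : ∀ a : A, ∃ x : f.grp, (x : G)⁻¹ * a ∈ centralizer (U : Set G) := by
    intro a
    obtain ⟨σ, hσ⟩ := exists_compat' f (hAP a.2) (hAE a a.2)
    refine ⟨ρ.symm σ, cent_of_compat f ?_⟩
    have h1 := f.compat_mul (f.compat_inv (hρ (ρ.symm σ))) hσ
    rwa [MulEquiv.apply_symm_apply, inv_mul_cancel] at h1
  choose θ hθ using hex'
  have huniq : ∀ x ∈ f.grp, x ∈ centralizer (U : Set G) → x = 1 := by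
    intro x hx hxU
    have h1 : x ∈ P ⊓ centralizer (V : Set G) := by
      refine Subgroup.mem_inf.2 ⟨f.grp_le hx, mem_centralizer_iff.2 fun v hv => ?_⟩
      obtain ⟨w, hw, z, hz, rfl⟩ := f.split v hv
      rw [mul_assoc, ← fx_comm hz hx, ← mul_assoc, mem_centralizer_iff.1 hxU w hw, mul_assoc]
    rwa [c.faith, Subgroup.mem_bot] at h1
  have hUn : ∀ a : A, (a : G) ∈ normalizer (centralizer (U : Set G) : Set G) := by
    intro a
    refine H75.normalizer_le_normalizer_centralizer U (mem_normalizer_iff_cj.2 ?_)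
    rw [hU, cj_brk (c.norm_mem (hAP a.2)), hAE a a.2]
  let θ' : ↥A →* ↥f.grp := MonoidHom.mk' θ fun a b => by
    refine inv_mul_eq_one.1 (Subtype.ext (huniq _ (SetLike.coe_mem _) ?_))
    push_cast
    rw [show ((θ (a * b) : G))⁻¹ * ((θ a : G) * θ b) = ((θ (a * b) : G)⁻¹ * ((a : G) * b)) *
      (((θ b : G)⁻¹ * b) * ((b : G)⁻¹ * ((θ a : G)⁻¹ * a) * b))⁻¹ by group]
    refine mul_mem (by simpa using hθ (a * b)) (inv_mem (mul_mem (hθ b) ?_))
    have h := H75.conj_mem_of_mem_normalizer (inv_mem (hUn b)) (hθ a)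
    rwa [inv_inv] at h
  have hθ' : ∀ a, θ' a = θ a := fun _ => rfl
  set A' : Subgroup G := θ'.range.map f.grp.subtype with hA'
  have hker : Nat.card θ'.ker = Nat.card ↥(A ⊓ centralizer (U : Set G)) :=
    Nat.card_congr
      { toFun := fun a => ⟨(a : A), (a : A).2, by
          have h := hθ a.1
          rw [← hθ', MonoidHom.mem_ker.1 a.2, OneMemClass.coe_one, inv_one, one_mul] at h
          exact h⟩
        invFun := fun a => ⟨⟨a, (Subgroup.mem_inf.1 a.2).1⟩, MonoidHom.mem_ker.2 (Subtype.ext (huniq _ (θ _).2 (by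
          have h := mul_mem (Subgroup.mem_inf.1 a.2).2 (inv_mem (hθ ⟨a, (Subgroup.mem_inf.1 a.2).1⟩))
          rw [mul_inv_rev, inv_inv] at h
          rw [hθ']; simpa [← mul_assoc] using h)))⟩
        left_inv := fun a => rfl, right_inv := fun a => rfl }
  have hcard : Nat.card A = Nat.card A' * Nat.card ↥(A ⊓ centralizer (U : Set G)) := by
    rw [Subgroup.card_eq_card_quotient_mul_card_subgroup θ'.ker,
      Nat.card_congr (QuotientGroup.quotientKerEquivRange θ').toEquiv, hker, hA',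
      Subgroup.card_map_of_injective f.grp.subtype_injective]
  have hA'el : Cfsg.IsElementaryAbelian 2 A' := by
    refine ⟨⟨⟨?_⟩⟩, ?_⟩
    · rintro ⟨_, _, ⟨a, rfl⟩, rfl⟩ ⟨_, _, ⟨b, rfl⟩, rfl⟩
      refine Subtype.ext ?_
      show (θ' a : G) * θ' b = θ' b * θ' a
      rw [← Subgroup.coe_mul, ← Subgroup.coe_mul, ← map_mul, ← map_mul,
        show a * b = b * a from Subtype.ext (H10.comm_of_elem hA a.2 b.2)]
    · rintro _ ⟨_, ⟨a, rfl⟩, rfl⟩
      show (θ' a : G) ^ 2 = 1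
      rw [← SubgroupClass.coe_pow, ← map_pow, show a ^ 2 = 1 from Subtype.ext (hA.2 _ a.2), map_one]
      rfl
  have hA'P : A' ≤ P := (map_subtype_le _).trans f.grp_le
  have hS : fx V A ⊔ fx V f.grp ≤ fx V A' := by
    refine sup_le (fun x hx => ?_) (fx_anti (map_subtype_le _))
    refine ⟨hx.1, mem_centralizer_iff.2 ?_⟩
    rintro _ ⟨_, ⟨a, rfl⟩, rfl⟩
    show (θ a : G) * x = x * (θ a : G)
    obtain ⟨w, hw, z, hz, rfl⟩ := f.split x hx.1
    have hwV : w ∈ V := f.wsp_le (f.brk_grp ▸ hw)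
    have haV : (a : G) ∈ normalizer (V : Set G) := c.norm_mem (hAP a.2)
    have hw' : (a : G) * w * (a : G)⁻¹ ∈ U := by
      have : cj (a : G) U = U := by rw [hU, cj_brk haV, hAE a a.2]
      refine this.le ?_
      rw [H70.mem_cj]; simpa [mul_assoc] using hw
    have hz' : (a : G) * z * (a : G)⁻¹ ∈ fx V f.grp := by
      rw [← hAE a a.2, ← cj_fx haV, H70.mem_cj]; simpa [mul_assoc] using hz
    have heq : (a : G) * w * (a : G)⁻¹ * ((a : G) * z * (a : G)⁻¹) = w * z := by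
      rw [← fx_conj hx a.2]; group
    have hmem : w⁻¹ * ((a : G) * w * (a : G)⁻¹) ∈ fx V f.grp := by
      rw [show w⁻¹ * ((a : G) * w * (a : G)⁻¹) = z * ((a : G) * z * (a : G)⁻¹)⁻¹ by
        rw [eq_mul_inv_iff_mul_eq, mul_assoc, heq, inv_mul_cancel_left]]
      exact mul_mem hz (inv_mem hz')
    have h1 := wsp_inf_fx f (f.brk_grp ▸ mul_mem (inv_mem hw) hw') hmem
    rw [inv_mul_eq_one] at h1
    have h2 : (θ a : G) * w = w * θ a := by
      have h3 := mem_centralizer_iff.1 (hθ a) w hw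
      calc (θ a : G) * w = θ a * ((a : G) * w * (a : G)⁻¹) := by rw [← h1]
        _ = θ a * (θ a * ((θ a : G)⁻¹ * a * w) * (a : G)⁻¹) := by group
        _ = θ a * (θ a * (w * ((θ a : G)⁻¹ * a)) * (a : G)⁻¹) := by rw [← h3]
        _ = θ a * (θ a * w * (θ a : G)⁻¹) := by group
        _ = (θ a : G) * (θ a : G) * w * (θ a : G) := by
          have hsq : (θ a : G) * θ a = 1 := by
            rw [← pow_two, ← SubgroupClass.coe_pow, ← hθ', ← map_pow,
              show a ^ 2 = 1 from Subtype.ext (hA.2 _ a.2), map_one]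
            rfl
          rw [inv_eq_of_mul_eq_one_right hsq]; group
        _ = w * θ a := by
          have hsq : (θ a : G) * θ a = 1 := by
            rw [← pow_two, ← SubgroupClass.coe_pow, ← hθ', ← map_pow,
              show a ^ 2 = 1 from Subtype.ext (hA.2 _ a.2), map_one]
            rfl
          rw [hsq, one_mul]
    calc (θ a : G) * (w * z) = (θ a : G) * w * z := by group
      _ = w * ((θ a : G) * z) := by rw [h2]; group
      _ = w * (z * θ a) := by rw [fx_comm hz (θ a).2]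
      _ = _ := by group
  refine ⟨?_, fun _ a ha => ⟨_, (θ ⟨a, ha⟩).2, hθ ⟨a, ha⟩⟩⟩
  rw [hcard, mul_comm (Nat.card A'), mul_assoc]
  exact Nat.mul_le_mul_left _ (le_trans (Nat.mul_le_mul_left _ (Subgroup.card_le_of_le hS))
    (hex A' hA'P hA'el))

end H80.LCSS
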