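import Cfsg.Agent.H78.PMin.Setup
import Cfsg.Agent.H80.MP.Basic
import Cfsg.Agent.H80.LCSS.Key
import Cfsg.Agent.H80.LCSS.LocBlock
import Cfsg.Agent.H80.LCSS.LocSym

/-!
The components of a `p`-minimal group with an offender, with their local properties.
-/

set_option autoImplicit false
set_option linter.unusedSectionVars false
set_option linter.style.haveILetI false

open Subgroup
open scoped commutatorElement MatrixGroups
open H70 (cj)
open H78.PMin

namespace H80.LCSS

variable {G : Type*} [Group G] [Finite G] {p : ℕ} [Fact p.Prime] {V P T M A : Subgroup G}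

theorem exact_of_ctx (c : Ctx p V P T M A) {B : Subgroup G} (hB : B ≤ P)
    (hBel : Cfsg.IsElementaryAbelian p B) : Nat.card B * Nat.card (fx V B) ≤ Nat.card V := by
  have h := c.env.exact hB hBel
  rwa [show B ⊓ centralizer (V : Set G) = ⊥ from
    le_bot_iff.1 ((inf_le_inf_right _ hB).trans c.faith.le), Subgroup.card_bot, one_mul] at h

/-- A block contains the root group in the normal closure of any of its root groups. -/
theorem block_le {E D B N : Subgroup G} {F : Type} [Field F] [Fintype F] (b : Block V E D F)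
    (hV : Cfsg.IsElementaryAbelian p V) (hB : IsPGroup p B) (hBE : B ≤ E) (hBN : B ≤ N)
    (hEN : E ≤ normalizer (N : Set G)) (hcard : Fintype.card F ≤ Nat.card B) : E ≤ N := by
  have hZ : fx V E ≠ V := by
    intro h
    have h1 := big_block b
    rw [h] at h1
    have : 0 < Nat.card V := Nat.card_pos
    omega
  have hEZ : E ≤ normalizer ((fx V E : Subgroup G) : Set G) :=
    (le_inf b.norm (le_normalizer.trans (H75.normalizer_le_normalizer_centralizer E))).trans
      (H75.normalizer_inf_le_normalizer_inf _ _)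
  obtain ⟨v, hv, hvZ, hfix⟩ := H80.MP.exists_fixed_coset hV hB (hBE.trans b.norm) (hBE.trans hEZ)
    inf_le_left hZ
  set w := b.ψ v
  have hw : w ≠ 0 := fun h => hvZ ((b.zero_iff v hv).1 h)
  obtain ⟨K, hK⟩ : ∃ K : SL(2, F), (K : Matrix (Fin 2) (Fin 2) F).mulVec ![1, 0] = w := by
    by_cases h0 : w 0 = 0
    · have h1 : w 1 ≠ 0 := fun h1 => hw (by funext i; fin_cases i <;> simp [h0, h1])
      refine ⟨⟨!![0, -(w 1)⁻¹; w 1, 0], by simp [Matrix.det_fin_two_of, h1]⟩, ?_⟩
      funext i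
      fin_cases i <;> simp [Matrix.mulVec, dotProduct, Fin.sum_univ_two, h0]
    · refine ⟨⟨!![w 0, 0; w 1, (w 0)⁻¹], by simp [Matrix.det_fin_two_of, h0]⟩, ?_⟩
      funext i
      fin_cases i <;> simp [Matrix.mulVec, dotProduct, Fin.sum_univ_two]
  set k := b.ρ.symm K
  have hle : cj (k : G)⁻¹ B ≤ D := by
    intro x hx
    have hx' := H70.mem_cj.1 hx
    rw [inv_inv] at hx'
    have hxE : (k : G) * x * (k : G)⁻¹ ∈ E := hBE hx'
    have hxE' : x ∈ E := by
      simpa [mul_assoc] using mul_mem (mul_mem (inv_mem k.2) hxE) k.2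
    refine (b.upper ⟨x, hxE'⟩).2 ⟨(b.ρ ⟨x, hxE'⟩ : Matrix (Fin 2) (Fin 2) F) 0 1, ?_⟩
    have h1 : b.ψ ((k : G) * x * (k : G)⁻¹ * v * ((k : G) * x * (k : G)⁻¹)⁻¹) = w := by
      have h2 := hfix _ hx'
      have hv' : (k : G) * x * (k : G)⁻¹ * v * ((k : G) * x * (k : G)⁻¹)⁻¹ ∈ V := b.conj_mem hxE hv
      rw [show (k : G) * x * (k : G)⁻¹ * v * ((k : G) * x * (k : G)⁻¹)⁻¹ =
        ⁅(k : G) * x * (k : G)⁻¹, v⁆ * v by rw [commutatorElement_def, inv_mul_cancel_right],
        b.map_mul _ h2.1 _ hv, (b.zero_iff _ h2.1).2 h2, zero_add]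
    rw [b.equiv ⟨_, hxE⟩ v hv] at h1
    have h2 : b.ρ ⟨_, hxE⟩ = K * b.ρ ⟨x, hxE'⟩ * K⁻¹ := by
      rw [show (⟨_, hxE⟩ : E) = k * ⟨x, hxE'⟩ * k⁻¹ from rfl, map_mul, map_mul, map_inv,
        MulEquiv.apply_symm_apply]
    have h3 := congrArg ((K⁻¹ : SL(2, F)) : Matrix (Fin 2) (Fin 2) F).mulVec h1
    rw [h2, ← show _ = b.ψ v from hK] at h3
    simp only [Matrix.mulVec_mulVec, ← Matrix.SpecialLinearGroup.coe_mul] at h3
    rw [show K⁻¹ * (K * b.ρ ⟨x, hxE'⟩ * K⁻¹ * K) = b.ρ ⟨x, hxE'⟩ by group, ← hK,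
      Matrix.mulVec_mulVec, ← Matrix.SpecialLinearGroup.coe_mul, inv_mul_cancel,
      Matrix.SpecialLinearGroup.coe_one, Matrix.one_mulVec] at h3
    have e0 := congrFun h3 0
    have e1 := congrFun h3 1
    simp [Matrix.mulVec, dotProduct, Fin.sum_univ_two] at e0 e1
    have hdet := (b.ρ ⟨x, hxE'⟩).2
    rw [Matrix.det_fin_two, e0, e1, one_mul, mul_zero, sub_zero] at hdet
    refine Subtype.ext ?_
    ext i j
    fin_cases i <;> fin_cases j <;> simp [H98.coe_uu, e0, e1, hdet]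
  have hDN : D ≤ N := by
    have hD : Nat.card D ≤ Fintype.card F := by
      rw [← Nat.card_eq_fintype_card]
      refine Nat.card_le_card_of_injective (fun d : D => b.par d.2) fun d d' h => Subtype.ext ?_
      exact (b.root_par d.2).symm.trans
        ((congrArg (fun s => ((b.root s : E) : G)) h).trans (b.root_par d'.2))
    rw [← Subgroup.eq_of_le_of_card_ge hle (by rw [H70.card_cj]; omega)]
    exact (H70.cj_mono _ hBN).trans (mem_normalizer_iff_cj.1 (hEN (inv_mem k.2))).le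
  rw [← b.sup_opp]
  exact sup_le hDN ((H70.cj_mono _ hDN).trans (mem_normalizer_iff_cj.1 (hEN b.weyl.2)).le)

/-- The component with all its properties. -/
theorem exists_local (c : Ctx p V P T M A) :
    ∃ E, Local p V P T E ∧ (∀ N : Subgroup G, P ≤ normalizer (N : Set G) → A ≤ N → E ≤ N) ∧
      ∀ t ∈ T, IsPiece p V (cj t E) := by
  have htwo : 2 ≤ Nat.card A := by
    have := Finite.one_lt_card_iff_nontrivial.2 ((nontrivial_iff_ne_bot A).2 c.mem.ne)
    omega
  obtain ⟨k, hk⟩ := c.mem.pgroup.exists_card_eq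
  have hk1 : 1 ≤ k := by
    rcases k with _ | k
    · rw [pow_zero] at hk; omega
    · omega
  by_cases h2 : 2 < Nat.card A
  · obtain ⟨E, hE, D, F, iF, iFf, hcard, ⟨b⟩⟩ := c.comp_big h2
    have l : Local p V P T E := ⟨c.env.elem, c.env.pm.pgroup, c.core_bot, c.faith,
      fun B => exact_of_ctx c, hE, big_block b,
      fun B hB hBel hBE => loc_block b c.env.elem (hB.trans c.env.norm) hBel hBE⟩
    refine ⟨E, l, fun N hN hAN => ?_, fun t ht => ⟨k, hk1, Or.inl ⟨F, iF, iFf, hcard.trans hk, ?_⟩⟩⟩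
    · obtain ⟨t, ht, htE⟩ := l.exists_cs_ge c.mem.le c.mem.elem c.mem.ne c.mem.off c.mem.strict
      refine block_le b c.env.elem (c.mem.pgroup.map _) htE ?_ (hE.le.trans hN) ?_
      · exact (H70.cj_mono _ hAN).trans
          (mem_normalizer_iff_cj.1 (hN (inv_mem (c.env.pm.T_le ht)))).le
      · rw [hcard, H70.card_cj]
    · obtain ⟨b'⟩ := b.exists_map (c.norm_mem (c.env.pm.T_le ht))
      exact b'.acts
  · have hA : Nat.card A = 2 := by omega
    obtain rfl : p = 2 := by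
      have hd : p ∣ 2 := hA ▸ hk ▸ dvd_pow_self p (by omega)
      exact (Nat.prime_dvd_prime_iff_eq Fact.out Nat.prime_two).1 hd
    obtain ⟨n, e, f, hE, m, hm, rfl⟩ := c.comp_two hA
    have l : Local 2 V P T f.grp := ⟨c.env.elem, c.env.pm.pgroup, c.core_bot, c.faith,
      fun B => exact_of_ctx c, hE, big_sym f,
      fun B hB hBel hBE => loc_sym f (fun B => exact_of_ctx c) hB hBel hBE⟩
    refine ⟨f.grp, l, fun N hN hAN => ?_, fun t ht => ⟨m, hm, Or.inr ⟨rfl, ?_⟩⟩⟩
    · refine (closure_le _).2 ?_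
      rintro _ ⟨x, -, rfl⟩
      obtain ⟨g, hg, he⟩ := x.2
      have h1 : zpowers (x : G) ≤ N := he ▸ (H70.cj_mono g hAN).trans
        (mem_normalizer_iff_cj.1 (hN hg)).le
      exact h1 (mem_zpowers _)
    · have hacts := f.acts
      rw [← brk_eq_commutator] at hacts
      obtain ⟨⟨ρ⟩, hn, hle, ρ', ψ, hr, hψ0, hsur, hker, hact⟩ := hacts
      have htV := c.norm_mem (c.env.pm.T_le ht)
      let ε : ↥(cj t f.grp) ≃* ↥f.grp := (f.grp.equivMapOfInjective _ (MulAut.conj t).injective).symm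
      have hε : ∀ g : ↥(cj t f.grp), (ε g : G) = t⁻¹ * (g : G) * t := fun g => by
        obtain ⟨y, rfl⟩ := ε.symm.surjective g
        rw [MulEquiv.apply_symm_apply]
        show (y : G) = t⁻¹ * (t * (y : G) * t⁻¹) * t
        group
      refine ⟨⟨ε.trans ρ⟩, ?_⟩
      rw [← brk_eq_commutator]
      have hU : ∀ {u}, u ∈ brk V (cj t f.grp) ↔ t⁻¹ * u * t ∈ brk V f.grp := fun {u} => by
        rw [← cj_brk htV, H70.mem_cj]
      let δ : ↥(brk V (cj t f.grp)) →* ↥(brk V f.grp) :=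
        MonoidHom.mk' (fun u => ⟨t⁻¹ * (u : G) * t, hU.1 u.2⟩) fun u v => Subtype.ext (by simp [mul_assoc])
      refine ⟨fun g hg => mem_normalizer_iff_cj.2 (by
          rw [cj_brk (c.norm_mem (cj_le (c.env.pm.T_le ht) f.grp_le hg)), H70.cj_of_mem hg]), inf_le_left,
        ρ'.comp ε.toMonoidHom, ψ.comp δ, ?_, fun u => hψ0 _, fun v hv => ?_, fun u => ?_, fun g u => ?_⟩
      · rw [MonoidHom.range_comp, MonoidHom.range_eq_top.2 ε.surjective, ← MonoidHom.range_eq_map, hr]
      · obtain ⟨u, hu⟩ := hsur v hv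
        refine ⟨⟨t * (u : G) * t⁻¹, hU.2 (by simpa [mul_assoc] using u.2)⟩, ?_⟩
        rw [← hu]
        show Multiplicative.toAdd (ψ _) = _
        congr 2
        exact Subtype.ext (show t⁻¹ * (t * (u : G) * t⁻¹) * t = u by group)
      · show ψ (δ u) = 1 ↔ _
        rw [hker]
        show t⁻¹ * (u : G) * t ∈ brk V f.grp ⊓ centralizer (f.grp : Set G) ↔ _
        simp only [Subgroup.mem_inf, hU.1 u.2, u.2, true_and]
        rw [← cj_centralizer, H70.mem_cj]
      · obtain ⟨w, hw, hwe⟩ := hact (ε g) (δ u)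
        refine ⟨⟨t * (w : G) * t⁻¹, hU.2 (by simpa [mul_assoc] using w.2)⟩, ?_, fun i => ?_⟩
        · show t * (w : G) * t⁻¹ = (g : G) * u * (g : G)⁻¹
          rw [hw, hε g]
          show t * (t⁻¹ * (g : G) * t * (t⁻¹ * (u : G) * t) * (t⁻¹ * (g : G) * t)⁻¹) * t⁻¹ = _
          group
        · show Multiplicative.toAdd (ψ (δ _)) i = _
          rw [show δ ⟨t * (w : G) * t⁻¹, hU.2 (by simpa [mul_assoc] using w.2)⟩ = w from
            Subtype.ext (show t⁻¹ * (t * (w : G) * t⁻¹) * t = w by group)]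
          exact hwe i

end H80.LCSS
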