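import Cfsg.Agent.H78.PMin.Group
import Cfsg.Agent.H75.PReduced2
import Cfsg.Agent.H10.Thompson
import Cfsg.Agent.H10.OffenderBasics
import Cfsg.Agent.H1.Cores
import Cfsg.Prelude.Def_BaumannBlocks
import Cfsg.Agent.H78.PMin.Exact

/-!
A `p`-minimal group of characteristic `p` that is not `C**(G,T)`.
-/

set_option autoImplicit false
set_option linter.unusedSectionVars false
set_option linter.style.haveILetI false

open Subgroup

namespace H80.LCSS

variable {G : Type*} [Group G] [Finite G] {p : ℕ} [Fact p.Prime]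

theorem mem_omega {X : Subgroup G} {x : G} :
    x ∈ Cfsg.omegaOneCenter p X ↔ x ∈ X ∧ x ∈ centralizer (X : Set G) ∧ x ^ p = 1 := by
  have hc : X ⊓ centralizer (X : Set G) ≤ centralizer ((X ⊓ centralizer (X : Set G) : Subgroup G) : Set G) :=
    inf_le_right.trans (centralizer_le (SetLike.coe_subset_coe.2 inf_le_left))
  constructor
  · intro hx
    refine ⟨(H75.omegaOne_le (p := p) _ hx).1, (H75.omegaOne_le (p := p) _ hx).2,
      (H75.omegaOne_elemAb (p := p) hc).2 x hx⟩
  · rintro ⟨h1, h2, h3⟩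
    exact subset_closure ⟨⟨h1, h2⟩, h3⟩

theorem omega_elem (X : Subgroup G) : Cfsg.IsElementaryAbelian p (Cfsg.omegaOneCenter p X) :=
  H75.omegaOne_elemAb (inf_le_right.trans (centralizer_le (SetLike.coe_subset_coe.2 inf_le_left)))

theorem omega_normal' {X : Subgroup G} (hX : X.Normal) : (Cfsg.omegaOneCenter p X).Normal := by
  refine ⟨fun x hx g => ?_⟩
  obtain ⟨h1, h2, h3⟩ := mem_omega.1 hx
  refine mem_omega.2 ⟨hX.conj_mem x h1 g, mem_centralizer_iff.2 fun y hy => ?_,
    by rw [conj_pow, h3]; group⟩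
  have h4 := mem_centralizer_iff.1 h2 (g⁻¹ * y * g) (by simpa using hX.conj_mem y hy g⁻¹)
  calc y * (g * x * g⁻¹) = g * ((g⁻¹ * y * g) * x) * g⁻¹ := by group
    _ = g * (x * (g⁻¹ * y * g)) * g⁻¹ := by rw [h4]
    _ = _ := by group

/-- `Ω₁(Z(O_p(G)))`. -/
abbrev modV (p : ℕ) (G : Type*) [Group G] : Subgroup G :=
  Cfsg.omegaOneCenter p (Cfsg.pCore p G)

/-- Its centraliser. -/
abbrev cenV (p : ℕ) (G : Type*) [Group G] : Subgroup G := centralizer (modV p G : Set G)

/-- The standing hypotheses. -/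
structure Data (p : ℕ) {G : Type*} [Group G] (T : Sylow p G) (M : Subgroup G) : Prop where
  coatom : IsCoatom M
  le_M : (T : Subgroup G) ≤ M
  uniq : ∀ H : Subgroup G, (T : Subgroup G) ≤ H → H ≠ ⊤ → H ≤ M
  not_normal : ¬ (T : Subgroup G).Normal
  charp : centralizer (Cfsg.pCore p G : Set G) ≤ Cfsg.pCore p G
  cent_le : centralizer (Cfsg.omegaOneCenter p (T : Subgroup G) : Set G) ≤ M
  norm_le : normalizer (Cfsg.thompsonSubgroupOf p (T : Subgroup G) : Set G) ≤ M

theorem exists_data (hmin : Cfsg.IsPMinimal p G)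
    (hG : centralizer (Cfsg.pCore p G : Set G) ≤ Cfsg.pCore p G) (T : Sylow p G)
    (hne : Cfsg.cStarStarOf p (T : Subgroup G) ≠ ⊤) : ∃ M, Data p T M := by
  obtain ⟨hn, M, ⟨hM, hTM⟩, hu⟩ := hmin T
  have huniq : ∀ H : Subgroup G, (T : Subgroup G) ≤ H → H ≠ ⊤ → H ≤ M := fun H hTH hH => by
    obtain ⟨M₁, hM₁, hle⟩ := H75.exists_coatom_ge hH
    obtain rfl := hu M₁ ⟨hM₁, hTH.trans hle⟩
    exact hle
  have hTC : (T : Subgroup G) ≤ centralizer (Cfsg.omegaOneCenter p (T : Subgroup G) : Set G) :=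
    fun t ht => mem_centralizer_iff.2 fun z hz =>
      (mem_centralizer_iff.1 (mem_omega.1 hz).2.1 t ht).symm
  have h := huniq _ (hTC.trans le_sup_left) hne
  exact ⟨M, hM, hTM, huniq, hn, hG, le_sup_left.trans h, le_sup_right.trans h⟩

namespace Data

variable {T : Sylow p G} {M : Subgroup G} (d : Data p T M)
include d

omit d in
theorem core_normal : (Cfsg.pCore p G).Normal := H1.pCore_normal' p G

theorem omegaT_le : Cfsg.omegaOneCenter p (T : Subgroup G) ≤ modV p G := by
  intro x hx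
  obtain ⟨h1, h2, h3⟩ := mem_omega.1 hx
  have hQT : Cfsg.pCore p G ≤ (T : Subgroup G) := H1.pCore_le_sylow T
  have hc : x ∈ centralizer (Cfsg.pCore p G : Set G) :=
    centralizer_le (SetLike.coe_subset_coe.2 hQT) h2
  exact mem_omega.2 ⟨d.charp hc, hc, h3⟩

theorem cenV_le : cenV p G ≤ M :=
  (centralizer_le (SetLike.coe_subset_coe.2 d.omegaT_le)).trans d.cent_le

theorem core_le_cenV : Cfsg.pCore p G ≤ cenV p G := fun q hq =>
  mem_centralizer_iff.2 fun v hv => (mem_centralizer_iff.1 (mem_omega.1 hv).2.1 q hq).symm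

omit d in
theorem cenV_normal : (cenV p G).Normal := by
  have h := omega_normal' (p := p) (H1.pCore_normal' p G)
  exact ⟨fun x hx g => H75.conj_mem_of_mem_normalizer
    (H75.normalizer_le_normalizer_centralizer _ ((normalizer_eq_top_iff.2 h).ge (mem_top g))) hx⟩

/-- A normal subgroup inside `M` meets `T` inside the `p`-core. -/
theorem inf_le_core {N : Subgroup G} (hN : N.Normal) (hNM : N ≤ M) :
    (T : Subgroup G) ⊓ N ≤ Cfsg.pCore p G := by
  haveI := hN
  set X := normalizer (((T : Subgroup G) ⊓ N : Subgroup G) : Set G)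
  have htop : X = ⊤ := by
    by_contra hX
    have h := H75.normalizer_inf_sup_eq_top T N
    have hTX : (T : Subgroup G) ≤ X := (le_inf le_normalizer
      (le_top.trans (normalizer_eq_top_iff.2 hN).ge)).trans (H75.normalizer_inf_le_normalizer_inf _ _)
    exact d.coatom.1 (eq_top_iff.2 (h.ge.trans (sup_le (d.uniq X hTX hX) hNM)))
  exact le_sSup ⟨normalizer_eq_top_iff.1 htop, T.isPGroup'.to_le inf_le_left⟩

theorem inf_cenV_le : (T : Subgroup G) ⊓ cenV p G ≤ Cfsg.pCore p G :=
  d.inf_le_core cenV_normal d.cenV_le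

theorem not_normalizer_le : ¬ (T : Subgroup G) ⊔ cenV p G = ⊤ := by
  intro h
  exact d.coatom.1 (eq_top_iff.2 (h.ge.trans (sup_le d.le_M d.cenV_le)))

/-- Some elementary abelian subgroup of largest order in `T` moves `V`. -/
theorem exists_moving : ∃ A, A ≤ (T : Subgroup G) ∧ A ∈ Cfsg.maxElementaryAbelianSubgroups p G ∧
    ¬ A ≤ cenV p G := by
  by_contra hno
  push Not at hno
  have hmax : ∀ {A : Subgroup G}, A ∈ H11.maxFam (H10.elemP p) (T : Subgroup G) →
      A ∈ Cfsg.maxElementaryAbelianSubgroups p G := fun hA =>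
    H10.mem_maxElementary_iff.2 (H10.maxFam_sylow T hA)
  refine d.coatom.1 (eq_top_iff.2 fun g _ => d.norm_le ?_)
  have hconj : ∀ k : G, ∀ x ∈ Cfsg.thompsonSubgroupOf p (T : Subgroup G),
      k * x * k⁻¹ ∈ Cfsg.thompsonSubgroupOf p (T : Subgroup G) := by
    intro k
    have hle : Cfsg.thompsonSubgroupOf p (T : Subgroup G) ≤
        (Cfsg.thompsonSubgroupOf p (T : Subgroup G)).comap (MulAut.conj k).toMonoidHom := by
      rw [H11.thompsonSubgroupOf_eq]
      refine sSup_le fun A hA => ?_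
      rw [← map_le_iff_le_comap]
      have hAQ : A ≤ Cfsg.pCore p G := fun a ha =>
        d.inf_cenV_le ⟨hA.1 ha, hno A hA.1 (hmax hA) ha⟩
      refine le_sSup ⟨?_, ?_, fun B hB hBel => ?_⟩
      · refine (map_mono hAQ).trans (le_trans ?_ (H1.pCore_le_sylow T))
        exact ((H1.pCore_normal' p G).map_conj_eq _ k).le
      · exact (H11.replProp_elem (G := G) p).mapEquiv A (MulAut.conj k) hA.2.1
      · rw [card_map_of_injective (MulAut.conj k).injective]
        exact hA.2.2 B hB hBel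
    exact fun x hx => hle hx
  exact H75.le_normalizer_of_conj (K := ⊤) (fun k _ => hconj k) (mem_top g)

end Data

end H80.LCSS
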