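import Cfsg.Agent.H80.LCSS.Group
import Cfsg.Agent.H80.LCSS.Comps
import Mathlib.GroupTheory.SemidirectProduct

/-!
The local `C**(G,T)`-theorem for `p`-minimal groups of characteristic `p`.
-/

set_option autoImplicit false
set_option linter.unusedSectionVars false
set_option linter.style.haveILetI false

open Subgroup
open scoped commutatorElement MatrixGroups
open H70 (cj)
open H78.PMin (fx brk)

namespace H80.LCSS

variable {G : Type*} [Group G] [Finite G] {p : ℕ} [Fact p.Prime]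

theorem card_restrict {H : Type*} [Group H] (f : G →* H) (X : Subgroup G) :
    Nat.card X = Nat.card (X.map f) * Nat.card ↥(X ⊓ f.ker) := by
  rw [Subgroup.card_eq_card_quotient_mul_card_subgroup (f.comp X.subtype).ker,
    Nat.card_congr (QuotientGroup.quotientKerEquivRange _).toEquiv, MonoidHom.range_comp,
    range_subtype]
  congr 1
  rw [← card_map_of_injective X.subtype_injective, ← MonoidHom.comap_ker, map_comap_eq,
    range_subtype]

theorem exists_min_exact {V : Subgroup G} {m : ℕ} :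
    ∀ B : Subgroup G, Nat.card B = m → B ≠ ⊥ → Nat.card V ≤ Nat.card B * Nat.card (fx V B) →
      ∃ A, A ≤ B ∧ A ≠ ⊥ ∧ Nat.card V ≤ Nat.card A * Nat.card (fx V A) ∧
        ∀ C : Subgroup G, C ≤ A → C ≠ ⊥ → C ≠ A →
          Nat.card C * Nat.card (fx V C) < Nat.card V := by
  induction m using Nat.strong_induction_on with
  | _ m ih =>
  intro B hB hne hoff
  by_cases hmin : ∀ C : Subgroup G, C ≤ B → C ≠ ⊥ → C ≠ B →
      Nat.card C * Nat.card (fx V C) < Nat.card V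
  · exact ⟨B, le_rfl, hne, hoff, hmin⟩
  push Not at hmin
  obtain ⟨C, hC, hC0, hCB, hCoff⟩ := hmin
  obtain ⟨A, hA, h⟩ := ih _ (hB ▸ lt_of_le_of_ne (Subgroup.card_le_of_le hC) fun he =>
    hCB (Subgroup.eq_of_le_of_card_ge hC he.ge)) C rfl hC0 hCoff
  exact ⟨A, hA.trans hC, h⟩

/-- The abstract configuration. -/
structure Amb {H : Type*} [Group H] (V C : Subgroup G) (ι : G →* H) (inV : ↥V →* H) : Prop where
  ker : ι.ker = C
  inj : Function.Injective inV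
  act : ∀ (g : G) (v : ↥V) (h : g * (v : G) * g⁻¹ ∈ V),
    ι g * inV v * (ι g)⁻¹ = inV ⟨g * v * g⁻¹, h⟩

namespace Amb

variable {H : Type*} [Group H] [Finite H] {V C : Subgroup G} {ι : G →* H} {inV : ↥V →* H}
  (a : Amb V C ι inV) (hVn : V.Normal)
include a hVn

theorem conj_inV (g : G) (v : ↥V) :
    ι g * inV v * (ι g)⁻¹ = inV ⟨g * v * g⁻¹, hVn.conj_mem _ v.2 g⟩ := a.act g v _

theorem comm_iff (g : G) (v : ↥V) : ι g * inV v = inV v * ι g ↔ g * (v : G) = v * g := by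
  rw [← mul_inv_eq_iff_eq_mul, a.conj_inV hVn, ← mul_inv_eq_iff_eq_mul (a := g * (v : G))]
  constructor
  · exact fun h => congrArg Subtype.val (a.inj h)
  · exact fun h => congrArg inV (Subtype.ext h)

theorem inV_norm (g : G) : ι g ∈ normalizer (inV.range : Set H) := by
  refine H75.le_normalizer_of_conj (K := ι.range) ?_ ⟨g, rfl⟩
  rintro _ ⟨k, rfl⟩ _ ⟨v, rfl⟩
  exact ⟨_, (a.conj_inV hVn k v).symm⟩

theorem card_range : Nat.card inV.range = Nat.card V :=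
  Nat.card_congr (MonoidHom.ofInjective a.inj).toEquiv.symm

theorem fx_map (X : Subgroup G) :
    fx inV.range (X.map ι) = ((fx V X).subgroupOf V).map inV := by
  refine le_antisymm ?_ ?_
  · rintro _ ⟨⟨v, rfl⟩, hv⟩
    refine ⟨v, ⟨v.2, mem_centralizer_iff.2 fun x hx => ?_⟩, rfl⟩
    exact (a.comm_iff hVn x v).1 (mem_centralizer_iff.1 hv _ (mem_map_of_mem ι hx))
  · rintro _ ⟨v, hv, rfl⟩
    refine ⟨⟨v, rfl⟩, mem_centralizer_iff.2 ?_⟩
    rintro _ ⟨x, hx, rfl⟩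
    exact (a.comm_iff hVn x v).2 (mem_centralizer_iff.1 hv.2 x hx)

theorem card_fx_map (X : Subgroup G) : Nat.card (fx inV.range (X.map ι)) = Nat.card (fx V X) := by
  rw [a.fx_map hVn, card_map_of_injective a.inj,
    Nat.card_congr (subgroupOfEquivOfLe inf_le_left).toEquiv]

theorem mem_comm_iff {E : Subgroup H} (hE : E ≤ ι.range) {u : G} (hu : u ∈ V) :
    u ∈ ⁅V, E.comap ι⁆ ↔ inV ⟨u, hu⟩ ∈ ⁅inV.range, E⁆ := by
  have hle : ⁅V, E.comap ι⁆ ≤ (⁅inV.range, E⁆.comap inV).map V.subtype := by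
    refine Subgroup.commutator_le.2 fun v hv e he => ?_
    have hw : e * v⁻¹ * e⁻¹ ∈ V := hVn.conj_mem _ (inv_mem hv) e
    refine ⟨⟨v, hv⟩ * ⟨_, hw⟩, ?_, ?_⟩
    · show inV (⟨v, hv⟩ * ⟨_, hw⟩) ∈ ⁅inV.range, E⁆
      have h1 := a.conj_inV hVn e ⟨v⁻¹, inv_mem hv⟩
      rw [map_mul, show inV ⟨_, hw⟩ = ι e * inV ⟨v⁻¹, inv_mem hv⟩ * (ι e)⁻¹ from h1.symm,
        show (⟨v⁻¹, inv_mem hv⟩ : V) = (⟨v, hv⟩ : V)⁻¹ from rfl, map_inv,
        ← mul_assoc, ← mul_assoc]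
      exact Subgroup.commutator_mem_commutator ⟨_, rfl⟩ he
    · show v * (e * v⁻¹ * e⁻¹) = ⁅v, e⁆
      rw [commutatorElement_def]; group
  constructor
  · intro h
    obtain ⟨w, hw, he⟩ := hle h
    rwa [show w = ⟨u, hu⟩ from Subtype.ext he] at hw
  · intro h
    have hle' : ⁅inV.range, E⁆ ≤ (⁅V, E.comap ι⁆.subgroupOf V).map inV := by
      refine Subgroup.commutator_le.2 ?_
      rintro _ ⟨v, rfl⟩ y hy
      obtain ⟨e, rfl⟩ := hE hy
      have hw : e * (v : G)⁻¹ * e⁻¹ ∈ V := hVn.conj_mem _ (inv_mem v.2) e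
      refine ⟨v * ⟨_, hw⟩, ?_, ?_⟩
      · show (v : G) * (e * (v : G)⁻¹ * e⁻¹) ∈ ⁅V, E.comap ι⁆
        rw [show (v : G) * (e * (v : G)⁻¹ * e⁻¹) = ⁅(v : G), e⁆ by
          rw [commutatorElement_def]; group]
        exact Subgroup.commutator_mem_commutator v.2 hy
      · rw [map_mul, show inV ⟨_, hw⟩ = ι e * inV v⁻¹ * (ι e)⁻¹ from (a.conj_inV hVn e v⁻¹).symm,
          map_inv, ← mul_assoc, ← mul_assoc, commutatorElement_def]
    obtain ⟨w, hw, he⟩ := hle' h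
    rw [a.inj he] at hw
    exact hw

end Amb

theorem main_ext (hmin : Cfsg.IsPMinimal p G)
    (hG : centralizer (Cfsg.pCore p G : Set G) ≤ Cfsg.pCore p G) (T : Sylow p G)
    (hne : Cfsg.cStarStarOf p (T : Subgroup G) ≠ ⊤) :
    ∃ (r : ℕ) (E : Fin r → Subgroup G), 1 ≤ r ∧
      (∀ t ∈ (T : Subgroup G), ∀ i, ∃ j, (E i).map (MulAut.conj t).toMonoidHom = E j) ∧
      (∀ i, cenV p G ≤ E i) ∧
      Cfsg.thompsonSubgroup p G ⊔ (T : Subgroup G) ⊔ cenV p G = ⊤ ∧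
      (⨆ i, E i) = Cfsg.thompsonSubgroup p G ⊔ cenV p G ∧
      (∀ i j, i ≠ j → ⁅E i, E j⁆ ≤ cenV p G) ∧
      (∀ i, E i ⊓ (⨆ j ∈ {j | j ≠ i}, E j) ≤ cenV p G) ∧
      (∀ i j, ∃ t ∈ (T : Subgroup G), (E i).map (MulAut.conj t).toMonoidHom = E j) ∧
      (modV p G ⊓ centralizer ((⨆ i, E i : Subgroup G) : Set G)) ⊔ (⨆ i, ⁅modV p G, E i⁆) =
        modV p G ∧
      (∀ i j, i ≠ j → ⁅⁅modV p G, E i⁆, E j⁆ = ⊥) ∧
      ∀ i, ∃ n : ℕ, 1 ≤ n ∧ ((∃ (F : Type) (_ : Field F) (_ : Fintype F),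
        Fintype.card F = p ^ n ∧ (∃ _ : ((cenV p G).subgroupOf (E i)).Normal,
          Nonempty (↥(E i) ⧸ (cenV p G).subgroupOf (E i) ≃* SL(2, F))) ∧
        Cfsg.ActsAsSL2OnSection F ⊤ (E i) ⁅modV p G, E i⁆
          (⁅modV p G, E i⁆ ⊓ centralizer ((E i : Subgroup G) : Set G))) ∨
        (p = 2 ∧ (∃ _ : ((cenV p G).subgroupOf (E i)).Normal,
          Nonempty (↥(E i) ⧸ (cenV p G).subgroupOf (E i) ≃* Equiv.Perm (Fin (2 ^ n + 1)))) ∧
        Cfsg.ActsAsOddPermModuleOnSection (2 ^ n + 1) ⊤ (E i) ⁅modV p G, E i⁆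
          (⁅modV p G, E i⁆ ⊓ centralizer ((E i : Subgroup G) : Set G)))) := by
  classical
  obtain ⟨M, d⟩ := exists_data hmin hG T hne
  set V := modV p G with hV
  set C := cenV p G with hC
  haveI hVn : V.Normal := omega_normal' (H1.pCore_normal' p G)
  haveI hCn : C.Normal := Data.cenV_normal
  have hVel : Cfsg.IsElementaryAbelian p V := omega_elem _
  let φ : G ⧸ C →* MulAut ↥V := QuotientGroup.lift C MulAut.conjNormal fun c hc =>
    MonoidHom.mem_ker.2 (MulEquiv.ext fun v => Subtype.ext (by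
      rw [MulAut.conjNormal_apply, ← mem_centralizer_iff.1 hc v v.2, mul_inv_cancel_right]
      rfl))
  haveI : Finite (↥V ⋊[φ] (G ⧸ C)) := Finite.of_equiv _ SemidirectProduct.equivProd.symm
  set ι : G →* ↥V ⋊[φ] (G ⧸ C) := SemidirectProduct.inr.comp (QuotientGroup.mk' C) with hι
  set inV : ↥V →* ↥V ⋊[φ] (G ⧸ C) := SemidirectProduct.inl with hinV
  have a : Amb V C ι inV := by
    refine ⟨?_, SemidirectProduct.inl_injective, fun g v h => ?_⟩
    · ext g
      rw [MonoidHom.mem_ker]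
      show SemidirectProduct.inr (QuotientGroup.mk g : G ⧸ C) = 1 ↔ g ∈ C
      rw [map_eq_one_iff _ SemidirectProduct.inr_injective, QuotientGroup.eq_one_iff]
    · show SemidirectProduct.inr (QuotientGroup.mk g) * SemidirectProduct.inl v *
        (SemidirectProduct.inr (QuotientGroup.mk g))⁻¹ = SemidirectProduct.inl _
      rw [← map_inv, ← SemidirectProduct.inl_aut]
      congr 1
  set W := inV.range with hW
  set P := ι.range with hP
  set Tb := (T : Subgroup G).map ι with hTb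
  set Mb := M.map ι with hMb
  have hTP : Tb ≤ P := map_le_range _ _
  have hPW : P ≤ normalizer (W : Set _) := by
    rintro _ ⟨g, rfl⟩
    exact a.inV_norm hVn g
  have hWel : Cfsg.IsElementaryAbelian p W := by
    refine ⟨⟨⟨?_⟩⟩, ?_⟩
    · rintro ⟨_, x, rfl⟩ ⟨_, y, rfl⟩
      refine Subtype.ext ?_
      show inV x * inV y = inV y * inV x
      rw [← map_mul, ← map_mul, show x * y = y * x from Subtype.ext (H10.comm_of_elem hVel x.2 y.2)]
    · rintro _ ⟨x, rfl⟩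
      rw [← map_pow, show x ^ p = 1 from Subtype.ext (hVel.2 _ x.2), map_one]
  have hfaith : P ⊓ centralizer (W : Set _) = ⊥ := by
    rw [eq_bot_iff]
    rintro _ ⟨⟨g, rfl⟩, hg⟩
    refine Subgroup.mem_bot.2 (MonoidHom.mem_ker.1 (a.ker.ge (mem_centralizer_iff.2 fun v hv => ?_)))
    exact ((a.comm_iff hVn g ⟨v, hv⟩).1 (mem_centralizer_iff.1 hg _ ⟨⟨v, hv⟩, rfl⟩).symm).symm
  have hTCne : (T : Subgroup G) ⊔ C ≠ ⊤ := d.not_normalizer_le
  have hcm : ∀ X : Subgroup G, (X.map ι).comap ι = X ⊔ C := fun X => by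
    rw [comap_map_eq, a.ker]
  have hpm : H78.PMin.PM p P Tb Mb := by
    refine ⟨⟨hTP, ?_⟩, map_mono d.le_M, map_le_range _ _, fun h => ?_, fun K hTK hKP hK => ?_,
      fun hn => ?_⟩
    · have h1 := (T.mapSurjective (f := ι.rangeRestrict) ι.rangeRestrict_surjective).card_eq_multiplicity
      rw [Sylow.coe_mapSurjective, ← card_map_of_injective (Subgroup.subtype_injective ι.range),
        Subgroup.map_map, MonoidHom.subtype_comp_rangeRestrict] at h1
      exact h1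
    · refine d.coatom.1 (eq_top_iff.2 fun g _ => ?_)
      have h1 : g ∈ (Mb).comap ι := h.ge ⟨g, rfl⟩
      rw [hcm] at h1
      exact (sup_le le_rfl d.cenV_le) h1
    · refine (map_comap_eq_self hKP).ge.trans (map_mono (d.uniq _ ?_ fun he => hK ?_))
      · exact map_le_iff_le_comap.1 hTK
      · rw [← map_comap_eq_self hKP, he, ← MonoidHom.range_eq_map]
    · have hnorm : ((T : Subgroup G) ⊔ C).Normal := by
        refine ⟨fun x hx g => ?_⟩
        rw [← hcm] at hx ⊢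
        show ι (g * x * g⁻¹) ∈ Tb
        rw [map_mul, map_mul, map_inv]
        exact H75.conj_mem_of_mem_normalizer (hn ⟨g, rfl⟩) hx
      have h1 := H75.normalizer_inf_sup_eq_top T ((T : Subgroup G) ⊔ C)
      rw [inf_eq_left.2 le_sup_left] at h1
      refine d.coatom.1 (eq_top_iff.2 (h1.ge.trans (sup_le (d.uniq _ le_normalizer fun he =>
        d.not_normal (normalizer_eq_top_iff.1 he)) (sup_le d.le_M d.cenV_le))))
  have hcore : Cfsg.pCoreOf p P = ⊥ := by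
    set R := Cfsg.pCoreOf p P with hR
    haveI hRn : (R.comap ι).Normal := ⟨fun x hx g => by
      show ι (g * x * g⁻¹) ∈ R
      rw [map_mul, map_mul, map_inv]
      exact H75.conj_mem_of_mem_normalizer (H75.le_normalizer_pCoreOf P ⟨g, rfl⟩) hx⟩
    have hRT : R.comap ι ≤ (T : Subgroup G) ⊔ C := (comap_mono hpm.pCore_le).trans (hcm _).le
    have h1 := d.inf_le_core hRn (hRT.trans (sup_le d.le_M d.cenV_le))
    refine eq_bot_iff.2 fun x hx => ?_
    obtain ⟨g, rfl⟩ := (H75.pCoreOf_le P) hx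
    obtain ⟨t, ht, c, hc, rfl⟩ := H10.exists_mul_of_mem_sup
      (le_top.trans (normalizer_eq_top_iff.2 hCn).ge) (hRT hx)
    have hιc : ι c = 1 := MonoidHom.mem_ker.1 (a.ker.ge hc)
    rw [map_mul, hιc, mul_one] at hx ⊢
    rw [Subgroup.mem_bot, ← MonoidHom.mem_ker, a.ker]
    exact d.core_le_cenV (h1 ⟨ht, hx⟩)
  have henv : H78.PMin.Env p W P Tb Mb := by
    refine ⟨hWel, hPW, hpm, hcore.le.trans bot_le, ?_⟩
    rintro _ ⟨⟨g, rfl⟩, hg⟩
    refine mem_map_of_mem ι (d.cent_le (mem_centralizer_iff.2 fun z hz => ?_))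
    have hzV : z ∈ V := d.omegaT_le hz
    have h1 : inV ⟨z, hzV⟩ ∈ fx W Tb := by
      rw [hW, hTb, a.fx_map hVn]
      exact ⟨⟨z, hzV⟩, ⟨hzV, (mem_omega.1 hz).2.1⟩, rfl⟩
    exact ((a.comm_iff hVn g ⟨z, hzV⟩).1 (mem_centralizer_iff.1 hg _ h1).symm).symm
  -- elementary abelian subgroups of largest order
  have helmap : ∀ {A : Subgroup G}, Cfsg.IsElementaryAbelian p A →
      Cfsg.IsElementaryAbelian p (A.map ι) := by
    intro A hA
    refine ⟨H11.isMulCommutative_map hA.1 _, ?_⟩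
    rintro _ ⟨x, hx, rfl⟩
    rw [← map_pow, hA.2 x hx, map_one]
  have hexact : ∀ {A : Subgroup G}, A ∈ Cfsg.maxElementaryAbelianSubgroups p G →
      Nat.card W ≤ Nat.card (A.map ι) * Nat.card (fx W (A.map ι)) ∧
        fx V A = A ⊓ V ∧ Nat.card A * Nat.card ↥(A ⊓ V) = Nat.card ↥(A ⊓ C) * Nat.card V := by
    intro A hA
    have hfxA : fx V A = A ⊓ V := (H10.inf_centralizer_of_max hVel hA).trans (inf_comm _ _)
    have hcard := card_restrict ι A
    rw [a.ker] at hcard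
    have hVA : V ≤ normalizer ((A ⊓ C : Subgroup G) : Set G) := le_trans
      (fun v hv => mem_centralizer_iff.2 fun x hx => (mem_centralizer_iff.1 hx.2 v hv).symm)
      (centralizer_le_normalizer _)
    have h1 := hA.2 _ (H10.elementaryAbelian_sup hVel
      (H10.elementaryAbelian_of_le hA.1 inf_le_left)
      (fun v hv x hx => mem_centralizer_iff.1 hx.2 v hv) : Cfsg.IsElementaryAbelian p
        (V ⊔ (A ⊓ C) : Subgroup G))
    have h2 := H10.card_mul_card_inf hVA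
    have h3 : V ⊓ (A ⊓ C) = A ⊓ V := le_antisymm (fun x hx => ⟨hx.2.1, hx.1⟩) fun x hx =>
      ⟨hx.2, hx.1, mem_centralizer_iff.2 fun v hv => H10.comm_of_elem hVel hv hx.2⟩
    rw [h3] at h2
    have h4 : Nat.card W ≤ Nat.card (A.map ι) * Nat.card (fx W (A.map ι)) := by
      rw [hW, a.card_range hVn, a.card_fx_map hVn, hfxA]
      refine Nat.le_of_mul_le_mul_right ?_ (Nat.card_pos : 0 < Nat.card ↥(A ⊓ C))
      calc Nat.card V * Nat.card ↥(A ⊓ C)
          = Nat.card ↥(V ⊔ (A ⊓ C)) * Nat.card ↥(A ⊓ V) := h2.symm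
        _ ≤ Nat.card A * Nat.card ↥(A ⊓ V) := Nat.mul_le_mul_right _ h1
        _ = _ := by rw [hcard]; ring
    refine ⟨h4, hfxA, le_antisymm ?_ ?_⟩
    · have h5 := henv.exact (map_le_range ι A) (helmap hA.1)
      rw [show A.map ι ⊓ centralizer (W : Set _) = ⊥ from
        le_bot_iff.1 ((inf_le_inf_right _ (map_le_range ι A)).trans hfaith.le),
        Subgroup.card_bot, one_mul, hW, a.card_range hVn, a.card_fx_map hVn, hfxA] at h5
      calc Nat.card A * Nat.card ↥(A ⊓ V)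
          = Nat.card ↥(A ⊓ C) * (Nat.card (A.map ι) * Nat.card ↥(A ⊓ V)) := by rw [hcard]; ring
        _ ≤ _ := Nat.mul_le_mul_left _ h5
    · rw [mul_comm, ← h2]
      exact Nat.mul_le_mul_right _ h1
  obtain ⟨A, hAT, hA, hAC⟩ := d.exists_moving
  obtain ⟨hAoff, hfxA, hAcard⟩ := hexact hA
  have hAne : A.map ι ≠ ⊥ := fun h => hAC (((map_eq_bot_iff A).1 h).trans a.ker.le)
  obtain ⟨A₀, hA₀A, hA₀ne, hA₀off, hA₀min⟩ :=
    exists_min_exact (V := W) (A.map ι) rfl hAne hAoff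
  have hA₀el := H10.elementaryAbelian_of_le (helmap hA.1) hA₀A
  have c : H78.PMin.Ctx p W P Tb Mb A₀ :=
    ⟨henv, hfaith, ⟨hA₀A.trans (map_le_range ι A), hA₀el, hA₀ne, hA₀off, hA₀min⟩⟩
  obtain ⟨E, l, hEN, hpiece⟩ := exists_local c
  set J := Cfsg.thompsonSubgroup p G with hJ
  haveI hJn : J.Normal := by
    haveI := H10.thompsonSubgroup_characteristic (p := p) (G := G)
    infer_instance
  have hJR : J.map ι ≤ comps Tb E := by
    rw [map_le_iff_le_comap, hJ, Cfsg.thompsonSubgroup, sSup_le_iff]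
    intro B hB
    rw [← map_le_iff_le_comap]
    exact l.le_comps (map_le_range ι B) (helmap hB.1) (hexact hB).1
  have hA₀J : A₀ ≤ J.map ι := by
    set A₁ := A ⊓ A₀.comap ι with hA₁
    have hmap : A₁.map ι = A₀ := by
      refine le_antisymm ((map_mono inf_le_right).trans (map_comap_le _ _)) fun x hx => ?_
      obtain ⟨y, hy, rfl⟩ := hA₀A hx
      exact mem_map_of_mem ι ⟨hy, hx⟩
    have hcA₁ := card_restrict ι A₁
    have h1 : A₁ ⊓ ι.ker = A ⊓ C := by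
      rw [a.ker]
      refine le_antisymm (inf_le_inf_right _ inf_le_left) fun x hx => ⟨⟨hx.1, ?_⟩, hx.2⟩
      show ι x ∈ A₀
      rw [MonoidHom.mem_ker.1 (a.ker.ge hx.2)]
      exact one_mem _
    rw [h1, hmap] at hcA₁
    have hel : Cfsg.IsElementaryAbelian p (A₁ ⊔ fx V A₁ : Subgroup G) :=
      H10.elementaryAbelian_sup (H10.elementaryAbelian_of_le hA.1 inf_le_left)
        (H10.elementaryAbelian_of_le hVel inf_le_left)
        fun x hx y hy => mem_centralizer_iff.1 hy.2 x hx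
    have hn : A₁ ≤ normalizer ((fx V A₁ : Subgroup G) : Set G) :=
      le_trans (fun x hx => mem_centralizer_iff.2 fun y hy =>
        (mem_centralizer_iff.1 hy.2 x hx).symm) (centralizer_le_normalizer _)
    have h2 := H10.card_mul_card_inf hn
    have h3 : A₁ ⊓ fx V A₁ = A ⊓ V := by
      refine le_antisymm (fun x hx => ⟨hx.1.1, hx.2.1⟩) fun x hx => ?_
      have hxC : x ∈ C := mem_centralizer_iff.2 fun v hv => H10.comm_of_elem hVel hv hx.2
      refine ⟨⟨hx.1, ?_⟩, hx.2, mem_centralizer_iff.2 fun y hy => H10.comm_of_elem hA.1 hy.1 hx.1⟩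
      show ι x ∈ A₀
      rw [MonoidHom.mem_ker.1 (a.ker.ge hxC)]
      exact one_mem _
    rw [h3, hcA₁] at h2
    have h4 : Nat.card V ≤ Nat.card A₀ * Nat.card (fx V A₁) := by
      rw [← a.card_fx_map hVn, hmap, ← a.card_range hVn]; exact hA₀off
    have hmax : (A₁ ⊔ fx V A₁ : Subgroup G) ∈ Cfsg.maxElementaryAbelianSubgroups p G := by
      refine ⟨hel, fun B hB => (hA.2 B hB).trans (Nat.le_of_mul_le_mul_right ?_
        (Nat.card_pos : 0 < Nat.card ↥(A ⊓ V)))⟩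
      calc Nat.card A * Nat.card ↥(A ⊓ V) = Nat.card ↥(A ⊓ C) * Nat.card V := hAcard
        _ ≤ Nat.card ↥(A ⊓ C) * (Nat.card A₀ * Nat.card (fx V A₁)) := Nat.mul_le_mul_left _ h4
        _ = _ := by rw [h2]; ring
    exact hmap.ge.trans (map_mono (le_sup_left.trans (le_sSup hmax)))
  have hPJ : P ≤ normalizer ((J.map ι : Subgroup _) : Set _) := by
    refine H75.le_normalizer_of_conj ?_
    rintro _ ⟨g, rfl⟩ _ ⟨x, hx, rfl⟩
    exact ⟨g * x * g⁻¹, hJn.conj_mem x hx g, by rw [map_mul, map_mul, map_inv]⟩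
  have hR : comps Tb E = J.map ι := by
    refine le_antisymm ?_ hJR
    refine iSup₂_le fun t ht => ?_
    exact (H70.cj_mono t (hEN _ hPJ hA₀J)).trans
      (H78.PMin.mem_normalizer_iff_cj.1 (hPJ (hTP ht))).le
  -- the family
  haveI : Finite {F // F ∈ l.csSet} := Finite.of_fintype _
  let eq := (Finite.equivFin {F // F ∈ l.csSet}).symm
  let F : Fin (Nat.card {F // F ∈ l.csSet}) → Subgroup (↥V ⋊[φ] (G ⧸ C)) := fun i => (eq i).1
  have hF : ∀ i, Cs Tb E (F i) := fun i => l.mem_csSet.1 (eq i).2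
  have hFne : ∀ {i j}, i ≠ j → F i ≠ F j := fun h he => h (eq.injective (Subtype.ext he))
  have hFsurj : ∀ {X}, Cs Tb E X → ∃ i, F i = X := fun hX =>
    ⟨eq.symm ⟨_, l.mem_csSet.2 hX⟩, by show (eq (eq.symm _)).1 = _; rw [Equiv.apply_symm_apply]⟩
  have hFP : ∀ i, F i ≤ P := fun i => l.cs_le_P (hF i)
  have hiSup : (⨆ i, F i) = comps Tb E := by
    refine le_antisymm (iSup_le fun i => Local.cs_le (hF i)) (iSup₂_le fun t ht => ?_)
    obtain ⟨i, hi⟩ := hFsurj ⟨t, ht, rfl⟩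
    exact hi ▸ le_iSup F i
  let E' : _ → Subgroup G := fun i => (F i).comap ι
  have hCE : ∀ i, C ≤ E' i := fun i x hx => by
    show ι x ∈ F i
    rw [MonoidHom.mem_ker.1 (a.ker.ge hx)]
    exact one_mem _
  have hmapE : ∀ i, (E' i).map ι = F i := fun i => map_comap_eq_self (hFP i)
  obtain ⟨i₀, -⟩ := hFsurj (Local.cs_self (T := Tb) (E := E))
  have hsupE : (⨆ i, E' i) = J ⊔ C := by
    have h1 : (⨆ i, E' i).map ι = J.map ι := by
      rw [Subgroup.map_iSup, ← hR, ← hiSup]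
      exact iSup_congr hmapE
    rw [← hcm J, ← h1, hcm, sup_eq_left.2 ((hCE i₀).trans (le_iSup E' i₀))]
  have hbot : ∀ {x : G}, ι x = 1 → x ∈ C := fun hx => a.ker.le (MonoidHom.mem_ker.2 hx)
  have hother : ∀ {i : Fin (Nat.card {F // F ∈ l.csSet})} {x : G},
      x ∈ (⨆ j ∈ {j | j ≠ i}, E' j) → ι x ∈ centralizer (brk W (F i) : Set _) := by
    intro i x hx
    have h1 : (⨆ j ∈ {j | j ≠ i}, E' j) ≤ (centralizer (brk W (F i) : Set _)).comap ι :=
      iSup₂_le fun j hj y hy => mem_centralizer_iff.2 fun u hu =>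
        (l.fix_cs (hF j) (hF i) (hFne hj) _ hy u hu).symm
    exact h1 hx
  refine ⟨_, E', i₀.pos, fun t ht i => ?_, hCE, ?_, hsupE, fun i j hij => ?_, fun i => ?_, fun i j => ?_, ?_,
    fun i j hij => ?_, fun i => ?_⟩
  · obtain ⟨s, hs, hi⟩ := hF i
    obtain ⟨j, hj⟩ := hFsurj (X := cj (ι t * s) E)
      ⟨ι t * s, mul_mem (mem_map_of_mem ι ht) hs, rfl⟩
    refine ⟨j, ?_⟩
    ext x
    rw [show (E' i).map (MulAut.conj t).toMonoidHom = cj t (E' i) from rfl, H70.mem_cj]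
    show ι (t⁻¹ * x * t) ∈ F i ↔ ι x ∈ F j
    rw [hj, ← hi, map_mul, map_mul, map_inv, H70.mem_cj, H70.mem_cj]
    constructor <;> intro h <;> convert h using 1 <;> group
  · rw [← hcm (J ⊔ (T : Subgroup G)), eq_top_iff]
    intro g _
    show ι g ∈ (J ⊔ (T : Subgroup G)).map ι
    rw [Subgroup.map_sup, ← hR]
    show ι g ∈ comps Tb E ⊔ Tb
    rw [comps, l.comp.gen]
    exact ⟨g, rfl⟩
  · refine Subgroup.commutator_le.2 fun x hx y hy => hbot ?_
    rw [map_commutatorElement, commutatorElement_eq_one_iff_mul_comm]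
    exact l.comm_cs (hF i) (hF j) (hFne hij) _ hx _ hy
  · rintro x ⟨hx1, hx2⟩
    refine hbot (l.eq_one (hFP i hx1) fun X hX => ?_)
    by_cases hXi : X = F i
    · exact hXi ▸ hother hx2
    · exact mem_centralizer_iff.2 fun u hu =>
        (l.fix_cs (hF i) hX (Ne.symm hXi) _ hx1 u hu).symm
  · obtain ⟨s, hs, hi⟩ := hF i
    obtain ⟨s', hs', hj⟩ := hF j
    obtain ⟨t, ht, hte⟩ := (mul_mem hs' (inv_mem hs) : s' * s⁻¹ ∈ Tb)
    refine ⟨t, ht, ?_⟩
    ext x
    rw [show (E' i).map (MulAut.conj t).toMonoidHom = cj t (E' i) from rfl, H70.mem_cj]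
    show ι (t⁻¹ * x * t) ∈ F i ↔ ι x ∈ F j
    rw [← hj, ← hi, map_mul, map_mul, map_inv, hte, H70.mem_cj, H70.mem_cj]
    constructor <;> intro h <;> convert h using 1 <;> group
  · refine le_antisymm (sup_le inf_le_left (iSup_le fun i => Subgroup.commutator_le_left _ _))
      fun v hv => ?_
    set X := (V ⊓ centralizer ((⨆ i, E' i : Subgroup G) : Set G)) ⊔ (⨆ i, ⁅V, E' i⁆) with hX
    have hcov := l.cover_sup (X := ⨆ i, brk W (F i)) l.csSet (fun _ => l.mem_csSet.1)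
      (fun Y hY => by
        obtain ⟨i, rfl⟩ := hFsurj (l.mem_csSet.1 hY)
        exact le_iSup (fun i => brk W (F i)) i)
    rw [l.sup_csSet] at hcov
    have hle : (⨆ i, brk W (F i)) ⊔ fx W (comps Tb E) ≤ (X.subgroupOf V).map inV := by
      refine sup_le (iSup_le fun i u hu => ?_) fun u hu => ?_
      · rw [H78.PMin.brk_eq_commutator] at hu
        obtain ⟨w, rfl⟩ : u ∈ inV.range := by
          refine (Subgroup.commutator_le.2 fun x hx y hy => ?_ : ⁅W, F i⁆ ≤ W) hu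
          rw [show ⁅x, y⁆ = x * (y * x⁻¹ * y⁻¹) by rw [commutatorElement_def]; group]
          exact mul_mem hx (H75.conj_mem_of_mem_normalizer (hPW (hFP i hy)) (inv_mem hx))
        exact ⟨w, mem_sup_right (le_iSup (fun i => ⁅V, E' i⁆) i
          ((a.mem_comm_iff hVn (hFP i) w.2).2 hu)), rfl⟩
      · obtain ⟨w, rfl⟩ := hu.1
        refine ⟨w, mem_sup_left ⟨w.2, mem_centralizer_iff.2 fun g hg => ?_⟩, rfl⟩
        have hg' : ι g ∈ comps Tb E := by
          have h1 : (⨆ i, E' i) ≤ (comps Tb E).comap ι := iSup_le fun i x hx => Local.cs_le (hF i) hx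
          exact h1 hg
        exact (a.comm_iff hVn g w).1 (H78.PMin.fx_comm hu hg')
    obtain ⟨w, hw, he⟩ := hle (hcov ⟨⟨v, hv⟩, rfl⟩)
    rw [a.inj he] at hw
    exact hw
  · rw [Subgroup.commutator_eq_bot_iff_le_centralizer]
    intro u hu
    have huV : u ∈ V := Subgroup.commutator_le_left _ _ hu
    refine mem_centralizer_iff.2 fun x hx => ?_
    have h1 : inV ⟨u, huV⟩ ∈ brk W (F i) := by
      rw [H78.PMin.brk_eq_commutator]
      exact (a.mem_comm_iff hVn (hFP i) huV).1 hu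
    exact (a.comm_iff hVn x ⟨u, huV⟩).1 (l.fix_cs (hF j) (hF i) (hFne (Ne.symm hij)) _ hx _ h1)
  · obtain ⟨t, ht, hti⟩ := hF i
    obtain ⟨n, hn, hcase⟩ := hpiece t ht
    rw [hti] at hcase
    refine ⟨n, hn, ?_⟩
    let f : ↥(E' i) →* ↥(F i) := MonoidHom.mk' (fun x => ⟨ι x, x.2⟩) fun x y => Subtype.ext (map_mul ι _ _)
    have hfs : Function.Surjective f := fun y => by
      obtain ⟨g, hg⟩ := hFP i y.2
      exact ⟨⟨g, show ι g ∈ F i by rw [hg]; exact y.2⟩, Subtype.ext hg⟩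
    haveI hnor : (C.subgroupOf (E' i)).Normal := Subgroup.Normal.subgroupOf hCn _
    have hfk : f.ker = C.subgroupOf (E' i) := by
      ext x
      rw [MonoidHom.mem_ker, mem_subgroupOf]
      exact ⟨fun h => hbot (congrArg Subtype.val h),
        fun h => Subtype.ext (MonoidHom.mem_ker.1 (a.ker.ge h))⟩
    have hiso : ∀ {K : Type} [Group K], (↥(F i) ≃* K) →
        Nonempty (↥(E' i) ⧸ C.subgroupOf (E' i) ≃* K) := fun e =>
      ⟨((QuotientGroup.quotientMulEquivOfEq hfk.symm).trans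
        (QuotientGroup.quotientKerEquivOfSurjective f hfs)).trans e⟩
    have hU : ∀ u : ↥⁅V, E' i⁆, (u : G) ∈ V := fun u => Subgroup.commutator_le_left _ _ u.2
    let δ : ↥⁅V, E' i⁆ →* ↥⁅W, F i⁆ := MonoidHom.mk'
      (fun u => ⟨inV ⟨u, hU u⟩, (a.mem_comm_iff hVn (hFP i) (hU u)).1 u.2⟩)
      fun u v => Subtype.ext (map_mul inV ⟨u, hU u⟩ ⟨v, hU v⟩)
    have hδs : Function.Surjective δ := by
      rintro ⟨u, hu⟩
      obtain ⟨w, rfl⟩ : u ∈ inV.range := by
        refine (Subgroup.commutator_le.2 fun x hx y hy => ?_ : ⁅W, F i⁆ ≤ W) hu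
        rw [show ⁅x, y⁆ = x * (y * x⁻¹ * y⁻¹) by rw [commutatorElement_def]; group]
        exact mul_mem hx (H75.conj_mem_of_mem_normalizer (hPW (hFP i hy)) (inv_mem hx))
      exact ⟨⟨w, (a.mem_comm_iff hVn (hFP i) w.2).2 hu⟩, rfl⟩
    have hcent : ∀ u : ↥⁅V, E' i⁆, ((δ u : ↥⁅W, F i⁆) : ↥V ⋊[φ] (G ⧸ C)) ∈ ⁅W, F i⁆ ⊓ centralizer (F i : Set _) ↔
        (u : G) ∈ ⁅V, E' i⁆ ⊓ centralizer ((E' i : Subgroup G) : Set G) := by
      intro u
      simp only [Subgroup.mem_inf, u.2, (δ u).2, true_and, mem_centralizer_iff]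
      constructor
      · exact fun h g hg => (a.comm_iff hVn g ⟨u, hU u⟩).1 (h _ hg)
      · intro h y hy
        obtain ⟨g, rfl⟩ := hFP i hy
        exact (a.comm_iff hVn g ⟨u, hU u⟩).2 (h g hy)
    have hnormU : E' i ≤ normalizer ((⁅V, E' i⁆ : Subgroup G) : Set G) :=
      (H75.le_normalizer_of_conj
        fun g hg u hu => by
          have huV : u ∈ V := Subgroup.commutator_le_left _ _ hu
          refine (a.mem_comm_iff hVn (hFP i) (hVn.conj_mem u huV g)).2 ?_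
          rw [← a.conj_inV hVn g ⟨u, huV⟩, ← H78.PMin.brk_eq_commutator,
            ← H70.cj_of_mem hg (A := F i), ← H78.PMin.cj_brk (hPW (hFP i hg)), H70.mem_cj,
            H78.PMin.brk_eq_commutator]
          simpa [mul_assoc] using (a.mem_comm_iff hVn (hFP i) huV).1 hu)
    rcases hcase with ⟨K, iK, iKf, hK, ⟨e⟩, hacts⟩ | ⟨hp2, ⟨e⟩, hacts⟩
    · refine Or.inl ⟨K, iK, iKf, hK, ⟨hnor, hiso e⟩, hnormU, inf_le_left, ?_⟩
      obtain ⟨-, -, ρ, ψ, hρ, hψ, hker, hact⟩ := hacts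
      refine ⟨ρ.comp f, ψ.comp δ, ?_, hψ.comp hδs, fun u => ?_, fun g u => ?_⟩
      · rw [MonoidHom.range_comp, MonoidHom.range_eq_top.2 hfs, ← MonoidHom.range_eq_map, hρ]
      · rw [MonoidHom.comp_apply, hker, hcent]
      · obtain ⟨w, hw, hwe⟩ := hact (f g) (δ u)
        refine ⟨⟨_, H75.conj_mem_of_mem_normalizer (hnormU g.2) u.2⟩, rfl, ?_⟩
        rw [MonoidHom.comp_apply, MonoidHom.comp_apply, show δ ⟨_, _⟩ = w from Subtype.ext
          ((a.conj_inV hVn g ⟨u, hU u⟩).symm.trans hw.symm)]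
        exact hwe
    · refine Or.inr ⟨hp2, ⟨hnor, hiso e⟩, hnormU, inf_le_left, ?_⟩
      obtain ⟨-, -, ρ, ψ, hρ, hψ0, hψ, hker, hact⟩ := hacts
      refine ⟨ρ.comp f, ψ.comp δ, ?_, fun u => hψ0 _, fun v hv => ?_, fun u => ?_, fun g u => ?_⟩
      · rw [MonoidHom.range_comp, MonoidHom.range_eq_top.2 hfs, ← MonoidHom.range_eq_map, hρ]
      · obtain ⟨u, hu⟩ := hψ v hv
        obtain ⟨u', rfl⟩ := hδs u
        exact ⟨u', hu⟩
      · rw [MonoidHom.comp_apply, hker, hcent]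
      · obtain ⟨w, hw, hwe⟩ := hact (f g) (δ u)
        refine ⟨⟨_, H75.conj_mem_of_mem_normalizer (hnormU g.2) u.2⟩, rfl, ?_⟩
        rw [MonoidHom.comp_apply, MonoidHom.comp_apply, show δ ⟨_, _⟩ = w from Subtype.ext
          ((a.conj_inV hVn g ⟨u, hU u⟩).symm.trans hw.symm)]
        exact hwe


theorem main (hmin : Cfsg.IsPMinimal p G)
    (hG : centralizer (Cfsg.pCore p G : Set G) ≤ Cfsg.pCore p G) (T : Sylow p G)
    (hne : Cfsg.cStarStarOf p (T : Subgroup G) ≠ ⊤) :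
    ∃ (r : ℕ) (E : Fin r → Subgroup G), (∀ i, cenV p G ≤ E i) ∧
      Cfsg.thompsonSubgroup p G ⊔ (T : Subgroup G) ⊔ cenV p G = ⊤ ∧
      (⨆ i, E i) = Cfsg.thompsonSubgroup p G ⊔ cenV p G ∧
      (∀ i j, i ≠ j → ⁅E i, E j⁆ ≤ cenV p G) ∧
      (∀ i, E i ⊓ (⨆ j ∈ {j | j ≠ i}, E j) ≤ cenV p G) ∧
      (∀ i j, ∃ t ∈ (T : Subgroup G), (E i).map (MulAut.conj t).toMonoidHom = E j) ∧
      (modV p G ⊓ centralizer ((⨆ i, E i : Subgroup G) : Set G)) ⊔ (⨆ i, ⁅modV p G, E i⁆) =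
        modV p G ∧
      (∀ i j, i ≠ j → ⁅⁅modV p G, E i⁆, E j⁆ = ⊥) ∧
      ∀ i, ∃ n : ℕ, 1 ≤ n ∧ ((∃ (F : Type) (_ : Field F) (_ : Fintype F),
        Fintype.card F = p ^ n ∧ (∃ _ : ((cenV p G).subgroupOf (E i)).Normal,
          Nonempty (↥(E i) ⧸ (cenV p G).subgroupOf (E i) ≃* SL(2, F))) ∧
        Cfsg.ActsAsSL2OnSection F ⊤ (E i) ⁅modV p G, E i⁆
          (⁅modV p G, E i⁆ ⊓ centralizer ((E i : Subgroup G) : Set G))) ∨
        (p = 2 ∧ (∃ _ : ((cenV p G).subgroupOf (E i)).Normal,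
          Nonempty (↥(E i) ⧸ (cenV p G).subgroupOf (E i) ≃* Equiv.Perm (Fin (2 ^ n + 1)))) ∧
        Cfsg.ActsAsOddPermModuleOnSection (2 ^ n + 1) ⊤ (E i) ⁅modV p G, E i⁆
          (⁅modV p G, E i⁆ ⊓ centralizer ((E i : Subgroup G) : Set G)))) := by
  obtain ⟨r, E, -, -, h⟩ := main_ext hmin hG T hne
  exact ⟨r, E, h⟩

end H80.LCSS
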